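import Groth.Agent.GrT.Gamma
import Groth.Agent.QC.Closure

/-!
`F ≅ Γ_*(F)~` for quasi-coherent `F` on `Proj`, when the charts of degree one cover.
-/

set_option autoImplicit false
set_option backward.isDefEq.respectTransparency false

universe u

open CategoryTheory DirectSum TopologicalSpace AlgebraicGeometry Opposite
open Groth.Agent.QC (res resO res_res res_smul resO_resO res_self resO_self app_res)

noncomputable section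

namespace GrT

/-- A morphism injective on sections and locally surjective is an isomorphism. -/
lemma isIso_of_locally {X : Scheme.{u}} {M N : X.Modules} (φ : M ⟶ N)
    (hinj : ∀ U, Function.Injective (φ.app U))
    (hsurj : ∀ (U : X.Opens) (t : Γ(N, U)) (x : X), x ∈ U →
      ∃ (V : X.Opens) (h : V ≤ U), x ∈ V ∧ ∃ s, φ.app V s = res N h t) : IsIso φ := by
  rw [Scheme.Modules.Hom.isIso_iff_isIso_app]
  intro U
  rw [ConcreteCategory.isIso_iff_bijective]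
  refine ⟨hinj U, fun t => ?_⟩
  choose V hV hxV s hs using fun x : U => hsurj U t x.1 x.2
  obtain ⟨a, ha, -⟩ := TopCat.Sheaf.existsUnique_gluing' (Groth.Agent.QC.abSheaf M) V U
    (fun x => homOfLE (hV x)) (fun x hx => Opens.mem_iSup.mpr ⟨⟨x, hx⟩, hxV _⟩) s (fun x y => by
      have key : ∀ (W : X.Opens) (h1 : W ≤ V x) (h2 : W ≤ V y),
          res M h1 (s x) = res M h2 (s y) := fun W h1 h2 => by
        apply hinj W
        rw [← app_res, ← app_res, hs, hs, res_res, res_res]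
      exact key _ inf_le_left inf_le_right)
  refine ⟨a, Groth.Agent.QC.section_eq_of_locally fun x hx => ⟨V ⟨x, hx⟩, hV _, hxV _, ?_⟩⟩
  have h2 : res M (hV ⟨x, hx⟩) a = s ⟨x, hx⟩ := ha ⟨x, hx⟩
  rw [app_res, h2]
  exact hs _

variable {R A : Type u} [CommRing R] [CommRing A] [Algebra R A] {𝒜 : ℕ → Submodule R A}
  [GradedAlgebra 𝒜]
variable {ι : Type u} {v : ι → A} {hv : ∀ i, v i ∈ 𝒜 1} {F : (Proj 𝒜).Modules}

variable (hv) in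
/-- `q` represents the germ of `σ` at `y`. -/
def Rep {U : (Proj 𝒜).Opens} (σ : Γ(F, U)) (y : U)
    (q : GrTilde.LocMod 𝒜 (M := Gam 𝒜 v hv F) y.1) : Prop :=
  ∃ (n : ℕ) (t : G 𝒜 v hv F n) (b : A) (i : ι) (V : (Proj 𝒜).Opens) (hV : V ≤ U)
    (hVi : V ≤ Proj.basicOpen 𝒜 (v i)) (hVb : V ≤ Proj.basicOpen 𝒜 b) (hy : y.1 ∈ V),
    b ∈ 𝒜 n ∧
    res F hVi ((t : Amb 𝒜 v F hv) i) = resO (Proj 𝒜) hVi (deh 𝒜 (hv i) b) • res F hV σ ∧
    q = fr 𝒜 y.1 (ofG 𝒜 v hv F n t) b (not_mem_of_mem 𝒜 hVb ⟨y.1, hy⟩)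

lemma change_chart {n : ℕ} (t : G 𝒜 v hv F n) {b : A} (hb : b ∈ 𝒜 n) {i j : ι}
    {W : (Proj 𝒜).Opens} (h1 : W ≤ Proj.basicOpen 𝒜 (v i)) (h2 : W ≤ Proj.basicOpen 𝒜 (v j))
    (σ : Γ(F, W)) (h : res F h2 ((t : Amb 𝒜 v F hv) j) = resO (Proj 𝒜) h2 (deh 𝒜 (hv j) b) • σ) :
    res F h1 ((t : Amb 𝒜 v F hv) i) = resO (Proj 𝒜) h1 (deh 𝒜 (hv i) b) • σ := by
  rw [t.2 i j W h1 h2, h, smul_smul, ← deh_cross 𝒜 (hv i) (hv j) hb h1 h2]

lemma rep_unique [Finite ι] (hF : Coh.IsQCoh F) {U : (Proj 𝒜).Opens} {σ : Γ(F, U)} {y : U}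
    {q q' : GrTilde.LocMod 𝒜 (M := Gam 𝒜 v hv F) y.1} (hq : Rep hv σ y q) (hq' : Rep hv σ y q') :
    q = q' := by
  obtain ⟨n, t, b, i, V, hV, hVi, hVb, hy, hb, e, rfl⟩ := hq
  obtain ⟨n', t', b', j, V', hV', hVj, hVb', hy', hb', e', rfl⟩ := hq'
  have hW : V ⊓ V' ≤ U := inf_le_left.trans hV
  have h1 : V ⊓ V' ≤ Proj.basicOpen 𝒜 (v i) := inf_le_left.trans hVi
  have h2 : V ⊓ V' ≤ Proj.basicOpen 𝒜 (v j) := inf_le_right.trans hVj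
  have e1 : res F h1 ((t : Amb 𝒜 v F hv) i) =
      resO (Proj 𝒜) h1 (deh 𝒜 (hv i) b) • res F hW σ := by
    have := congrArg (res F (inf_le_left : V ⊓ V' ≤ V)) e
    rwa [res_res, res_smul, resO_resO, res_res] at this
  have e2 : res F h1 ((t' : Amb 𝒜 v F hv) i) =
      resO (Proj 𝒜) h1 (deh 𝒜 (hv i) b') • res F hW σ := by
    refine change_chart t' hb' h1 h2 _ ?_
    have := congrArg (res F (inf_le_right : V ⊓ V' ≤ V')) e'
    rwa [res_res, res_smul, resO_resO, res_res] at this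
  have hm1 : b' • (t : Amb 𝒜 v F hv) ∈ G 𝒜 v hv F (n' + n) := Compat.smul hb' t.2
  have hm2 : b • (t' : Amb 𝒜 v F hv) ∈ G 𝒜 v hv F (n' + n) :=
    add_comm n n' ▸ (Compat.smul hb t'.2 : b • (t' : Amb 𝒜 v F hv) ∈ G 𝒜 v hv F (n + n'))
  let z : G 𝒜 v hv F (n' + n) := ⟨b' • (t : Amb 𝒜 v F hv), hm1⟩ - ⟨b • (t' : Amb 𝒜 v F hv), hm2⟩
  have hz : ofG 𝒜 v hv F _ z = b' • ofG 𝒜 v hv F n t - b • ofG 𝒜 v hv F n' t' := by
    rw [map_sub, smul_ofG hb' t, smul_ofG hb t']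
    congr 1
    exact ofG_congr (add_comm _ _) _ _ rfl
  have h0 : res F h1 ((z : Amb 𝒜 v F hv) i) = 0 := by
    change res F h1 ((b' • (t : Amb 𝒜 v F hv)) i - (b • (t' : Amb 𝒜 v F hv)) i) = 0
    rw [map_sub, amb_smul, amb_smul, res_smul, res_smul, e1, e2, smul_smul, smul_smul, mul_comm,
      sub_self]
  obtain ⟨d, c, -, hc, hc0⟩ := exists_smul_eq_zero hF z i h1 h0 (y := y.1) ⟨hy, hy'⟩
  exact (fr_eq_iff 𝒜 y.1 _ _).mpr ⟨c, hc, by rw [← hz, hc0]⟩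

lemma exists_rep [Finite ι] (hF : Coh.IsQCoh F)
    (hcov : ∀ x : ProjectiveSpectrum 𝒜, ∃ i, v i ∉ x.asHomogeneousIdeal) {U : (Proj 𝒜).Opens}
    (σ : Γ(F, U)) (y : U) : ∃ q, Rep hv σ y q := by
  haveI : F.IsQuasicoherent := hF
  obtain ⟨i, hi⟩ := hcov y.1
  have haff : IsAffineOpen (Proj.basicOpen 𝒜 (v i)) :=
    ProjLib.isAffineOpen_basicOpen 𝒜 (hv i) one_pos
  obtain ⟨h, hhU, hyh⟩ := haff.exists_basicOpen_le y
    ((ProjectiveSpectrum.mem_basicOpen 𝒜 _ y.1).mpr hi)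
  obtain ⟨l, u, hu⟩ := (Groth.Agent.QC.isLoc_of_isQCoh (M := F) haff).exists_extend h (res F hhU σ)
  obtain ⟨k, a, ha, hk, rfl⟩ := exists_away 𝒜 (hv i) one_pos h
  have hD := basicOpen_away 𝒜 (hv i) one_pos hk ha
  obtain ⟨n₀, hn₀⟩ := exists_extend (hv := hv) hF i u
  have hn : l * k ≤ n₀ + l * k := Nat.le_add_left _ _
  obtain ⟨t, ht⟩ := hn₀ (n₀ + l * k) (Nat.le_add_right _ _)
  have ha' : a ∈ 𝒜 k := by rwa [smul_eq_mul, mul_one] at ha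
  have hb : v i ^ n₀ * a ^ l ∈ 𝒜 (n₀ + l * k) :=
    SetLike.mul_mem_graded (pow_mem_one 𝒜 (hv i) n₀) (SetLike.pow_mem_graded l ha')
  have hVb : (Proj 𝒜).basicOpen (away 𝒜 (hv i) k ha) ≤ Proj.basicOpen 𝒜 (v i ^ n₀ * a ^ l) := by
    intro z hz
    have hz' := (ProjectiveSpectrum.mem_basicOpen 𝒜 _ z).mp (hD.le hz)
    exact (ProjectiveSpectrum.mem_basicOpen 𝒜 _ z).mpr (not_mem_mul 𝒜
      (not_mem_pow 𝒜 (left_not_mem 𝒜 hz') _) (not_mem_pow 𝒜 (right_not_mem 𝒜 hz') _))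
  refine ⟨_, n₀ + l * k, t, _, i, _, hhU, (Proj 𝒜).basicOpen_le _, hVb, hyh, hb, ?_, rfl⟩
  rw [ht, hu, map_mul (deh 𝒜 (hv i)), map_pow, map_pow, deh_self, one_pow, one_mul, map_pow,
    deh_of_mem 𝒜 (hv i) ha']

variable [Finite ι] (hF : Coh.IsQCoh F)
  (hcov : ∀ x : ProjectiveSpectrum 𝒜, ∃ i, v i ∉ x.asHomogeneousIdeal)

variable (hv) in
/-- The value of `σ` at `y`. -/
def value {U : (Proj 𝒜).Opens} (σ : Γ(F, U)) (y : U) :
    GrTilde.LocMod 𝒜 (M := Gam 𝒜 v hv F) y.1 :=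
  (exists_rep (hv := hv) hF hcov σ y).choose

lemma rep_value {U : (Proj 𝒜).Opens} (σ : Γ(F, U)) (y : U) :
    Rep hv σ y (value hv hF hcov σ y) :=
  (exists_rep (hv := hv) hF hcov σ y).choose_spec

lemma value_eq {U : (Proj 𝒜).Opens} {σ : Γ(F, U)} {y : U}
    {q : GrTilde.LocMod 𝒜 (M := Gam 𝒜 v hv F) y.1} (h : Rep hv σ y q) :
    value hv hF hcov σ y = q :=
  rep_unique hF (rep_value hF hcov σ y) h

lemma value_mem {U : (Proj 𝒜).Opens} (σ : Γ(F, U)) (y : U) :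
    value hv hF hcov σ y ∈ GrTilde.tildeAt 𝒜 (piece 𝒜 v hv F) 0 y.1 := by
  obtain ⟨n, t, b, i, V, hV, hVi, hVb, hy, hb, -, e⟩ := rep_value (hv := hv) hF hcov σ y
  rw [e]
  exact Submodule.subset_span ⟨n, n, ⟨_, ofG_mem_piece 𝒜 v hv F n t⟩, ⟨b, hb⟩, _, (add_zero _).symm, rfl⟩

variable (hv) in
/-- `F(U) → Γ_*(F)~(U)`. -/
def toTildeFun {U : (Proj 𝒜).Opens} (σ : Γ(F, U)) :
    GrTilde.sect 𝒜 (piece 𝒜 v hv F) 0 (op U) :=
  ⟨fun y => ⟨value hv hF hcov σ y, value_mem hF hcov σ y⟩, fun y => by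
    obtain ⟨n, t, b, i, V, hV, hVi, hVb, hy, hb, e, -⟩ := rep_value (hv := hv) hF hcov σ y
    exact ⟨V, hy, homOfLE hV, n, n, ⟨_, ofG_mem_piece 𝒜 v hv F n t⟩, ⟨b, hb⟩,
      fun z => not_mem_of_mem 𝒜 hVb z, Or.inl (add_zero _).symm,
      fun z => value_eq hF hcov ⟨n, t, b, i, V, hV, hVi, hVb, z.2, hb, e, rfl⟩⟩⟩

lemma toTildeFun_add {U : (Proj 𝒜).Opens} (σ τ : Γ(F, U)) :
    toTildeFun hv hF hcov (σ + τ) = toTildeFun hv hF hcov σ + toTildeFun hv hF hcov τ := by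
  refine sect_ext 𝒜 (piece 𝒜 v hv F) fun y => ?_
  change value hv hF hcov (σ + τ) y = value hv hF hcov σ y + value hv hF hcov τ y
  obtain ⟨n, t, b, i, V, hV, hVi, hVb, hy, hb, e, h1⟩ := rep_value (hv := hv) hF hcov σ y
  obtain ⟨n', t', b', j, V', hV', hVj, hVb', hy', hb', e', h2⟩ := rep_value (hv := hv) hF hcov τ y
  rw [h1, h2, fr_add]
  have hW : V ⊓ V' ≤ U := inf_le_left.trans hV
  have hi : V ⊓ V' ≤ Proj.basicOpen 𝒜 (v i) := inf_le_left.trans hVi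
  have hj : V ⊓ V' ≤ Proj.basicOpen 𝒜 (v j) := inf_le_right.trans hVj
  have e1 : res F hi ((t : Amb 𝒜 v F hv) i) =
      resO (Proj 𝒜) hi (deh 𝒜 (hv i) b) • res F hW σ := by
    have := congrArg (res F (inf_le_left : V ⊓ V' ≤ V)) e
    rwa [res_res, res_smul, resO_resO, res_res] at this
  have e2 : res F hi ((t' : Amb 𝒜 v F hv) i) =
      resO (Proj 𝒜) hi (deh 𝒜 (hv i) b') • res F hW τ := by
    refine change_chart t' hb' hi hj _ ?_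
    have := congrArg (res F (inf_le_right : V ⊓ V' ≤ V')) e'
    rwa [res_res, res_smul, resO_resO, res_res] at this
  have hm1 : b' • (t : Amb 𝒜 v F hv) ∈ G 𝒜 v hv F (n + n') :=
    add_comm n' n ▸ (Compat.smul hb' t.2 : b' • (t : Amb 𝒜 v F hv) ∈ G 𝒜 v hv F (n' + n))
  have hm2 : b • (t' : Amb 𝒜 v F hv) ∈ G 𝒜 v hv F (n + n') := Compat.smul hb t'.2
  refine value_eq hF hcov ⟨n + n', ⟨_, hm1⟩ + ⟨_, hm2⟩, b * b', i, V ⊓ V', hW, hi, ?_, ⟨hy, hy'⟩,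
    SetLike.mul_mem_graded hb hb', ?_, ?_⟩
  · exact fun z hz => (ProjectiveSpectrum.mem_basicOpen 𝒜 _ z).mpr
      (not_mem_mul 𝒜 (not_mem_of_mem 𝒜 hVb ⟨z, hz.1⟩) (not_mem_of_mem 𝒜 hVb' ⟨z, hz.2⟩))
  · change res F hi ((b' • (t : Amb 𝒜 v F hv)) i + (b • (t' : Amb 𝒜 v F hv)) i) = _
    rw [map_add, amb_smul, amb_smul, res_smul, res_smul, e1, e2, map_add, smul_smul, smul_smul,
      map_mul (deh 𝒜 (hv i)), map_mul (resO (Proj 𝒜) hi), smul_add]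
    congr 2
    ring
  · congr 1
    rw [smul_ofG hb' t, smul_ofG hb t', map_add]
    congr 1
    exact ofG_congr (add_comm _ _) _ _ rfl

lemma toTildeFun_smul {U : (Proj 𝒜).Opens} (c : Γ(Proj 𝒜, U)) (σ : Γ(F, U)) (y : U) :
    value hv hF hcov (c • σ) y = pO 𝒜 c y • value hv hF hcov σ y := by
  obtain ⟨n, t, b, i, V, hV, hVi, hVb, hy, hb, e, h1⟩ := rep_value (hv := hv) hF hcov σ y
  obtain ⟨V', hy', ι', k, ⟨r, hr⟩, ⟨s, hs⟩, hsV, hc⟩ := (c : Twist.O (𝒜 := 𝒜) (op U)).2 y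
  have hcy : pO 𝒜 c y = Localization.mk r ⟨s, hsV ⟨y.1, hy'⟩⟩ :=
    congrArg HomogeneousLocalization.val (hc ⟨y.1, hy'⟩)
  rw [h1, hcy, LocalizedModule.mk_smul_mk]
  have hW : V ⊓ V' ≤ U := inf_le_left.trans hV
  have hi : V ⊓ V' ≤ Proj.basicOpen 𝒜 (v i) := inf_le_left.trans hVi
  have e1 : res F hi ((t : Amb 𝒜 v F hv) i) =
      resO (Proj 𝒜) hi (deh 𝒜 (hv i) b) • res F hW σ := by
    have := congrArg (res F (inf_le_left : V ⊓ V' ≤ V)) e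
    rwa [res_res, res_smul, resO_resO, res_res] at this
  have hcl : resO (Proj 𝒜) hi (deh 𝒜 (hv i) s) * resO (Proj 𝒜) hW c =
      resO (Proj 𝒜) hi (deh 𝒜 (hv i) r) := pO_ext 𝒜 fun z => by
    have hzi := not_mem_pow 𝒜 (not_mem_of_mem 𝒜 hi z) k
    have hzs : s ∉ z.1.asHomogeneousIdeal := hsV ⟨z.1, z.2.2⟩
    have hcz : pO 𝒜 (resO (Proj 𝒜) hW c) z = Localization.mk r ⟨s, hzs⟩ :=
      congrArg HomogeneousLocalization.val (hc ⟨z.1, z.2.2⟩)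
    rw [pO_mul, hcz, pO_deh 𝒜 (hv i) hs hi z hzi, pO_deh 𝒜 (hv i) hr hi z hzi,
      Localization.mk_mul, Localization.mk_eq_mk_iff, Localization.r_iff_exists]
    exact ⟨1, by simp only [Submonoid.coe_mul, OneMemClass.coe_one, one_mul]; ring⟩
  refine value_eq hF hcov ⟨k + n, ⟨_, Compat.smul hr t.2⟩, s * b, i, V ⊓ V', hW, hi, ?_, ⟨hy, hy'⟩,
    SetLike.mul_mem_graded hs hb, ?_, ?_⟩
  · exact fun z hz => (ProjectiveSpectrum.mem_basicOpen 𝒜 _ z).mpr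
      (not_mem_mul 𝒜 (hsV ⟨z, hz.2⟩) (not_mem_of_mem 𝒜 hVb ⟨z, hz.1⟩))
  · change res F hi ((r • (t : Amb 𝒜 v F hv)) i) = _
    rw [amb_smul, res_smul, e1, res_smul, smul_smul, smul_smul, map_mul (deh 𝒜 (hv i)),
      map_mul (resO (Proj 𝒜) hi), mul_right_comm, hcl]
  · rw [smul_ofG hr t]
    rfl

lemma value_res {U V : (Proj 𝒜).Opens} (h : V ≤ U) (σ : Γ(F, U)) (y : V) :
    value hv hF hcov (res F h σ) y = value hv hF hcov σ ⟨y.1, h y.2⟩ := by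
  obtain ⟨n, t, b, i, W, hW, hWi, hWb, hy, hb, e, h1⟩ := rep_value (hv := hv) hF hcov (res F h σ) y
  rw [h1]
  refine (value_eq hF hcov (y := ⟨y.1, h y.2⟩)
    ⟨n, t, b, i, W, hW.trans h, hWi, hWb, hy, hb, ?_, rfl⟩).symm
  rwa [res_res] at e

variable (hv) in
/-- `F(U) → Γ_*(F)~(U)`, additive. -/
def toTildeHom (U : (Proj 𝒜).Opens) :
    Γ(F, U) →+ Γ(GrTilde.tilde 𝒜 (piece 𝒜 v hv F) 0, U) :=
  AddMonoidHom.mk' (fun σ => (toTildeFun hv hF hcov σ : Γ(GrTilde.tilde 𝒜 (piece 𝒜 v hv F) 0, U)))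
    (fun σ τ => toTildeFun_add hF hcov σ τ)

variable (hv) in
/-- `F ⟶ Γ_*(F)~`. -/
def toTilde : F ⟶ GrTilde.tilde 𝒜 (piece 𝒜 v hv F) 0 :=
  ⟨PresheafOfModules.homMk
    { app := fun U => AddCommGrpCat.ofHom (toTildeHom hv hF hcov U.unop)
      naturality := fun U V h => by
        ext σ
        exact sect_ext 𝒜 (piece 𝒜 v hv F) fun y => value_res hF hcov (leOfHom h.unop) σ y }
    fun U c σ => sect_ext 𝒜 (piece 𝒜 v hv F) fun y => toTildeFun_smul hF hcov c σ y⟩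

lemma toTilde_pt {U : (Proj 𝒜).Opens} (σ : Γ(F, U)) (y : U) :
    pt 𝒜 (piece 𝒜 v hv F) ((toTilde hv hF hcov).app U σ) y = value hv hF hcov σ y := rfl

lemma toTilde_injective (U : (Proj 𝒜).Opens) :
    Function.Injective ((toTilde hv hF hcov).app U) := by
  refine (injective_iff_map_eq_zero _).mpr fun σ hσ => Groth.Agent.QC.section_eq_of_locally fun x hx => ?_
  have h0 : value hv hF hcov σ ⟨x, hx⟩ = 0 := by
    rw [← toTilde_pt, hσ]; rfl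
  obtain ⟨n, t, b, i, V, hV, hVi, hVb, hy, hb, e, h1⟩ := rep_value (hv := hv) hF hcov σ ⟨x, hx⟩
  obtain ⟨c', hc', hc0'⟩ := (fr_eq_zero_iff 𝒜 x _).mp (h1.symm.trans h0)
  obtain ⟨d, c, hc, hcx, hc0⟩ := exists_homog_smul_eq_zero 𝒜 (piece 𝒜 v hv F) hc'
    (ofG_mem_piece 𝒜 v hv F n t) hc0'
  rw [smul_ofG hc t, ofG_eq_zero_iff] at hc0
  have hci : deh 𝒜 (hv i) c • (t : Amb 𝒜 v F hv) i = 0 := congrFun hc0 i
  have hWi : V ⊓ Proj.basicOpen 𝒜 c ≤ Proj.basicOpen 𝒜 (v i) := inf_le_left.trans hVi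
  refine ⟨V ⊓ Proj.basicOpen 𝒜 c, inf_le_left.trans hV,
    ⟨hy, (ProjectiveSpectrum.mem_basicOpen 𝒜 c x).mpr hcx⟩, ?_⟩
  rw [map_zero]
  have h2 := congrArg (res F hWi) hci
  rw [res_smul, map_zero] at h2
  have h3 := congrArg (res F (inf_le_left : V ⊓ Proj.basicOpen 𝒜 c ≤ V)) e
  rw [res_res, res_smul, resO_resO, res_res] at h3
  rw [h3, smul_smul] at h2
  exact ((isUnit_deh 𝒜 (hv i) hc hWi inf_le_right).mul
    (isUnit_deh 𝒜 (hv i) hb hWi (inf_le_left.trans hVb))).smul_eq_zero.mp h2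

lemma toTilde_surjective (U : (Proj 𝒜).Opens) (s : Γ(GrTilde.tilde 𝒜 (piece 𝒜 v hv F) 0, U))
    (x : (Proj 𝒜)) (hx : x ∈ U) :
    ∃ (V : (Proj 𝒜).Opens) (h : V ≤ U), x ∈ V ∧
      ∃ σ, (toTilde hv hF hcov).app V σ = res (GrTilde.tilde 𝒜 (piece 𝒜 v hv F) 0) h s := by
  obtain ⟨e, k, g, a, -, hg, ha, hn, hgx, hgU, hval⟩ := exists_frac_nhd 𝒜 (piece 𝒜 v hv F)
    (U := op U) (s : GrTilde.sect 𝒜 (piece 𝒜 v hv F) 0 (op U)) ⟨x, hx⟩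
  have hk : k = e := by omega
  subst hk
  obtain ⟨t, rfl⟩ := ha
  obtain ⟨i, hi⟩ := hcov x
  have h1 : Proj.basicOpen 𝒜 g ⊓ Proj.basicOpen 𝒜 (v i) ≤ Proj.basicOpen 𝒜 (v i) := inf_le_right
  obtain ⟨u, hu⟩ := (isUnit_deh 𝒜 (hv i) hg h1 inf_le_left).exists_right_inv
  refine ⟨Proj.basicOpen 𝒜 g ⊓ Proj.basicOpen 𝒜 (v i), inf_le_left.trans hgU,
    ⟨(ProjectiveSpectrum.mem_basicOpen 𝒜 g x).mpr hgx,
      (ProjectiveSpectrum.mem_basicOpen 𝒜 _ x).mpr hi⟩,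
    u • res F h1 ((t : Amb 𝒜 v F hv) i), pt_ext 𝒜 (piece 𝒜 v hv F) fun y => ?_⟩
  rw [toTilde_pt, pt_res]
  refine Eq.trans ?_ (hval ⟨y.1, inf_le_left.trans hgU y.2⟩ (not_mem_of_mem 𝒜 inf_le_left y)).symm
  refine value_eq hF hcov ⟨k, t, g, i, _, le_rfl, h1, inf_le_left, y.2, hg, ?_, rfl⟩
  rw [res_self, smul_smul, hu, one_smul]

theorem isIso_toTilde : IsIso (toTilde hv hF hcov) :=
  isIso_of_locally _ (toTilde_injective hF hcov) (toTilde_surjective hF hcov)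

end GrT
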