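import Groth.Agent.GrT.QCoh

/-!
Graded submodules and the induced map of `GrTilde.tilde`.
-/

set_option autoImplicit false
set_option backward.isDefEq.respectTransparency false

universe u

open CategoryTheory DirectSum TopologicalSpace AlgebraicGeometry Opposite
open Groth.Agent.QC (res resO)

noncomputable section

namespace GrT

variable {R A : Type u} [CommRing R] [CommRing A] [Algebra R A] (𝒜 : ℕ → Submodule R A)
  [GradedAlgebra 𝒜]
variable {M : Type u} [AddCommGroup M] [Module R M] [Module A M] [IsScalarTower R A M]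
  (ℳ : ℕ → Submodule R M)

/-- The grading of a submodule. -/
def subPiece (N : Submodule A M) (k : ℕ) : Submodule R N :=
  (ℳ k).comap (N.subtype.restrictScalars R)

omit [GradedAlgebra 𝒜] in
instance (N : Submodule A M) [SetLike.GradedSMul 𝒜 ℳ] :
    SetLike.GradedSMul 𝒜 (subPiece ℳ N) :=
  ⟨fun {d n a m} ha hm => smul_mem_graded 𝒜 ℳ (z := (m : M)) ha hm⟩

variable [DirectSum.Decomposition ℳ]

lemma coe_component_sub (N : Submodule A M) (w : ⨁ k, subPiece ℳ N k) (k : ℕ) :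
    (decompose ℳ ((DirectSum.coeLinearMap (subPiece ℳ N) w : N) : M) k : M) =
      ((w k : N) : M) := by
  induction w using DirectSum.induction_on with
  | zero => simp
  | of j x =>
    rw [DirectSum.coeLinearMap_of]
    by_cases h : j = k
    · subst h
      rw [decompose_of_mem_same ℳ (show ((x : N) : M) ∈ ℳ j from x.2), DirectSum.of_eq_same]
    · rw [decompose_of_mem_ne ℳ (show ((x : N) : M) ∈ ℳ j from x.2) h,
        DirectSum.of_eq_of_ne _ _ _ (Ne.symm h)]
      rfl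
  | add a b ha hb =>
    simp only [map_add, Submodule.coe_add, decompose_add, DirectSum.add_apply] at *
    rw [ha, hb]

/-- A submodule stable under components is graded. -/
@[instance_reducible]
def subDecomposition (N : Submodule A M)
    (hN : ∀ z ∈ N, ∀ k, (decompose ℳ z k : M) ∈ N) : DirectSum.Decomposition (subPiece ℳ N) := by
  classical
  refine DirectSum.IsInternal.chooseDecomposition _ ⟨fun a b h => ?_, fun z => ?_⟩
  · refine DFinsupp.ext fun k => Subtype.ext (Subtype.ext ?_)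
    rw [← coe_component_sub ℳ N a k, ← coe_component_sub ℳ N b k]
    exact congrArg (fun z : N => (decompose ℳ (z : M) k : M)) h
  · refine ⟨∑ k ∈ (decompose ℳ (z : M)).support, DirectSum.of (fun k => subPiece ℳ N k) k
      ⟨⟨_, hN z.1 z.2 k⟩, (decompose ℳ (z : M) k).2⟩, Subtype.ext ?_⟩
    rw [map_sum, AddSubmonoidClass.coe_finsetSum]
    simp only [DirectSum.coeAddMonoidHom_of]
    exact sum_support_decompose ℳ (z : M)

variable [SetLike.GradedSMul 𝒜 ℳ]

include 𝒜 in
omit [IsScalarTower R A M] in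
/-- Components of a span of homogeneous elements. -/
lemma component_mem_span {κ : Type*} [Finite κ] (e : κ → ℕ) (g : κ → M) (hg : ∀ p, g p ∈ ℳ (e p))
    {z : M} (hz : z ∈ Submodule.span A (Set.range g)) (k : ℕ) :
    (decompose ℳ z k : M) ∈ Submodule.span A (Set.range g) := by
  classical
  haveI := Fintype.ofFinite κ
  obtain ⟨b, rfl⟩ := Submodule.mem_span_range_iff_exists_fun A |>.mp hz
  rw [decompose_sum, DFinsupp.finsetSum_apply, AddSubmonoidClass.coe_finsetSum]
  refine Submodule.sum_mem _ fun p _ => ?_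
  by_cases h : e p ≤ k
  · have := decompose_smul_of_mem 𝒜 ℳ (b p) (hg p) (k - e p)
    rw [Nat.sub_add_cancel h] at this
    rw [this]
    exact Submodule.smul_mem _ _ (Submodule.subset_span ⟨p, rfl⟩)
  · have hzero : (decompose ℳ (b p • g p) k : M) = 0 := by
      generalize b p = u
      induction u using DirectSum.Decomposition.inductionOn 𝒜 with
      | zero => simp
      | homogeneous a => exact decompose_of_mem_ne ℳ (smul_mem_graded 𝒜 ℳ a.2 (hg p)) (by omega)
      | add a c ha hc =>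
        rw [add_smul, decompose_add, DirectSum.add_apply, Submodule.coe_add, ha, hc, add_zero]
    rw [hzero]
    exact zero_mem _

omit [DirectSum.Decomposition ℳ]

/-- `N_x → M_x`. -/
def subLoc (N : Submodule A M) (x : ProjectiveSpectrum 𝒜) :
    GrTilde.LocMod 𝒜 (M := N) x →ₗ[Localization.AtPrime x.asHomogeneousIdeal.toIdeal]
      GrTilde.LocMod 𝒜 (M := M) x :=
  LocalizedModule.map x.asHomogeneousIdeal.toIdeal.primeCompl N.subtype

omit [Module R M] [IsScalarTower R A M] in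
lemma subLoc_fr (N : Submodule A M) (x : ProjectiveSpectrum 𝒜) (a : N) {g : A}
    (hg : g ∉ x.asHomogeneousIdeal) :
    subLoc 𝒜 N x (fr 𝒜 x a g hg) = fr 𝒜 x (a : M) g hg :=
  LocalizedModule.map_mk _ _ _ _

lemma subLoc_mem (N : Submodule A M) (x : ProjectiveSpectrum 𝒜) {q : GrTilde.LocMod 𝒜 (M := N) x}
    (hq : q ∈ GrTilde.tildeAt 𝒜 (subPiece ℳ N) 0 x) :
    subLoc 𝒜 N x q ∈ GrTilde.tildeAt 𝒜 ℳ 0 x := by
  obtain ⟨i, j, a, g, hg, ha, hgj, hn, rfl⟩ := exists_frac_at 𝒜 (subPiece ℳ N) 0 x hq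
  rw [subLoc_fr]
  exact Submodule.subset_span ⟨i, j, ⟨(a : M), ha⟩, ⟨g, hgj⟩, hg, hn, rfl⟩

/-- The map on sections. -/
def subTildeFun (N : Submodule A M) {U : (Proj 𝒜).Opens}
    (s : GrTilde.sect 𝒜 (subPiece ℳ N) 0 (op U)) : GrTilde.sect 𝒜 ℳ 0 (op U) :=
  ⟨fun y => ⟨subLoc 𝒜 N y.1 (s.1 y).1, subLoc_mem 𝒜 ℳ N y.1 (s.1 y).2⟩, fun y => by
    obtain ⟨V, hy, ι, i, j, m, t, nin, hc, w⟩ := s.2 y
    refine ⟨V, hy, ι, i, j, ⟨(m.1 : M), m.2⟩, t, nin,
      hc.imp_right (fun h => congrArg Subtype.val h), fun z => ?_⟩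
    change subLoc 𝒜 N z.1 (s.1 (ι z)).1 = _
    rw [w z]
    exact subLoc_fr 𝒜 N z.1 _ _⟩

/-- `N~ ⟶ M~`. -/
def subTilde (N : Submodule A M) :
    GrTilde.tilde 𝒜 (subPiece ℳ N) 0 ⟶ GrTilde.tilde 𝒜 ℳ 0 :=
  ⟨PresheafOfModules.homMk
    { app := fun U => AddCommGrpCat.ofHom
        (AddMonoidHom.mk' (fun s : Γ(GrTilde.tilde 𝒜 (subPiece ℳ N) 0, U.unop) =>
          (subTildeFun 𝒜 ℳ N s : Γ(GrTilde.tilde 𝒜 ℳ 0, U.unop)))
          fun s t => sect_ext 𝒜 ℳ fun y => map_add (subLoc 𝒜 N y.1) _ _)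
      naturality := fun _ _ _ => rfl }
    fun U c s => sect_ext 𝒜 ℳ fun y =>
      LinearMap.map_smul (subLoc 𝒜 N y.1) ((c : Twist.O (𝒜 := 𝒜) U).1 y).val _⟩

lemma pt_subTilde (N : Submodule A M) {U : (Proj 𝒜).Opens}
    (s : Γ(GrTilde.tilde 𝒜 (subPiece ℳ N) 0, U)) (y : U) :
    pt 𝒜 ℳ ((subTilde 𝒜 ℳ N).app U s) y = subLoc 𝒜 N y.1 (pt 𝒜 (subPiece ℳ N) s y) := rfl

omit [Module R M] [IsScalarTower R A M] in
lemma subLoc_injective (N : Submodule A M) (x : ProjectiveSpectrum 𝒜) :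
    Function.Injective (subLoc 𝒜 N x) := by
  refine (injective_iff_map_eq_zero _).mpr fun q => ?_
  induction q using LocalizedModule.induction_on with
  | h m s =>
    intro h
    obtain ⟨u, hu, h0⟩ := (fr_eq_zero_iff 𝒜 x s.2).mp ((subLoc_fr 𝒜 N x m s.2).symm.trans h)
    exact (fr_eq_zero_iff 𝒜 x s.2).mpr ⟨u, hu, Subtype.ext h0⟩

end GrT
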