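import Groth.Agent.GrT.GammaIso
import Groth.Agent.GrT.SubMod
import Groth.Agent.QC.FiniteType

/-!
Finite type quasi-coherent modules on `Proj` come from finitely generated graded modules.
-/

set_option autoImplicit false
set_option backward.isDefEq.respectTransparency false

universe u

open CategoryTheory DirectSum TopologicalSpace AlgebraicGeometry Opposite
open Groth.Agent.QC (res resO res_res res_smul resO_resO res_self resO_self app_res)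

noncomputable section

namespace GrT

variable {R A : Type u} [CommRing R] [CommRing A] [Algebra R A] {𝒜 : ℕ → Submodule R A}
  [GradedAlgebra 𝒜]
variable {ι : Type u} [Finite ι] {v : ι → A} {hv : ∀ i, v i ∈ 𝒜 1} {F : (Proj 𝒜).Modules}

lemma chart_mul_pow (i : ι) (k : ℕ) (a : A) :
    deh 𝒜 (hv i) (v i ^ k * a) = deh 𝒜 (hv i) a := by
  rw [map_mul, map_pow, deh_self, one_pow, one_mul]

/-- Finitely many homogeneous elements generating `Γ_*(F)` up to homogeneous denominators. -/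
lemma exists_generators (hF : Coh.IsQCoh F) (hFT : CohB1.IsFT F)
    (hcov : ∀ x : ProjectiveSpectrum 𝒜, ∃ i, v i ∉ x.asHomogeneousIdeal) :
    ∃ (κ : Type u) (_ : Finite κ) (e : κ → ℕ) (g : κ → Gam 𝒜 v hv F),
      (∀ p, g p ∈ piece 𝒜 v hv F (e p)) ∧
      ∀ (n : ℕ) (t : G 𝒜 v hv F n) (y : ProjectiveSpectrum 𝒜),
        ∃ (d : ℕ) (c : A), c ∈ 𝒜 d ∧ c ∉ y.asHomogeneousIdeal ∧
          c • ofG 𝒜 v hv F n t ∈ Submodule.span A (Set.range g) := by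
  classical
  haveI := Fintype.ofFinite ι
  haveI : F.IsQuasicoherent := hF
  have haff : ∀ i, IsAffineOpen (Proj.basicOpen 𝒜 (v i)) := fun i =>
    ProjLib.isAffineOpen_basicOpen 𝒜 (hv i) one_pos
  have hfin : ∀ i, ∃ (m : ℕ) (u : Fin m → Γ(F, Proj.basicOpen 𝒜 (v i))),
      Submodule.span Γ(Proj 𝒜, Proj.basicOpen 𝒜 (v i)) (Set.range u) = ⊤ := fun i =>
    Submodule.fg_iff_exists_fin_generating_family.mp
      ((Groth.Agent.QC.isFT_iff_finite_sections (M := F)).mp hFT ⟨_, haff i⟩).fg_top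
  choose m u hu using hfin
  choose n₀ hn₀ using fun (i : ι) (l : Fin (m i)) => exists_extend (hv := hv) hF i (u i l)
  let N0 := Finset.univ.sup fun p : (Σ i, Fin (m i)) => n₀ p.1 p.2
  choose T hT using fun p : (Σ i, Fin (m i)) =>
    hn₀ p.1 p.2 N0 (Finset.le_sup (f := fun p : (Σ i, Fin (m i)) => n₀ p.1 p.2) (Finset.mem_univ p))
  refine ⟨Σ i, Fin (m i), inferInstance, fun _ => N0, fun p => ofG 𝒜 v hv F N0 (T p),
    fun p => ofG_mem_piece 𝒜 v hv F N0 _, fun n t y => ?_⟩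
  obtain ⟨i, hi⟩ := hcov y
  obtain ⟨h, hsum⟩ := Submodule.mem_span_range_iff_exists_fun _ |>.mp
    ((hu i).ge (Submodule.mem_top : (t : Amb 𝒜 v F hv) i ∈ ⊤))
  choose k a ha hk hh using fun l => exists_away 𝒜 (hv i) one_pos (h l)
  let K := Finset.univ.sup k
  let b : Fin (m i) → A := fun l => v i ^ (K - k l) * a l
  have hb : ∀ l, b l ∈ 𝒜 K := fun l => by
    have hle : k l ≤ K := Finset.le_sup (Finset.mem_univ l)
    have h1 : a l ∈ 𝒜 (k l) := by simpa [smul_eq_mul] using ha l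
    have h2 := SetLike.mul_mem_graded (pow_mem_one 𝒜 (hv i) (K - k l)) h1
    rwa [Nat.sub_add_cancel hle] at h2
  have hhb : ∀ l, deh 𝒜 (hv i) (b l) = h l := fun l => by
    have h1 : a l ∈ 𝒜 (k l) := by simpa [smul_eq_mul] using ha l
    rw [chart_mul_pow, deh_of_mem 𝒜 (hv i) h1, hh l]
  have hvb : ∀ l, v i ^ n * b l ∈ 𝒜 (n + K) := fun l =>
    SetLike.mul_mem_graded (pow_mem_one 𝒜 (hv i) n) (hb l)
  have hmem : v i ^ (N0 + K) • (t : Amb 𝒜 v F hv) ∈ G 𝒜 v hv F (n + K + N0) := by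
    have h1 := Compat.smul (pow_mem_one 𝒜 (hv i) (N0 + K)) t.2
    rwa [show N0 + K + n = n + K + N0 by omega] at h1
  let z : G 𝒜 v hv F (n + K + N0) := ⟨_, hmem⟩ -
    ∑ l, ⟨(v i ^ n * b l) • (T ⟨i, l⟩ : Amb 𝒜 v F hv), Compat.smul (hvb l) (T ⟨i, l⟩).2⟩
  have hzi : res F (le_refl (Proj.basicOpen 𝒜 (v i))) ((z : Amb 𝒜 v F hv) i) = 0 := by
    rw [res_self]
    change (v i ^ (N0 + K) • (t : Amb 𝒜 v F hv)) i -
      ((∑ l, ⟨_, Compat.smul (hvb l) (T ⟨i, l⟩).2⟩ : G 𝒜 v hv F (n + K + N0)) : Amb 𝒜 v F hv) i = 0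
    rw [amb_smul, map_pow, deh_self, one_pow, one_smul, sub_eq_zero, ← hsum,
      AddSubmonoidClass.coe_finsetSum]
    symm
    refine (Finset.sum_apply i Finset.univ
      (fun l => ((v i ^ n * b l) • (T ⟨i, l⟩ : Amb 𝒜 v F hv) :
        ∀ j, Γ(F, Proj.basicOpen 𝒜 (v j))))).trans (Finset.sum_congr rfl fun l _ => ?_)
    change deh 𝒜 (hv i) (v i ^ n * b l) • (T ⟨i, l⟩ : Amb 𝒜 v F hv) i = _
    rw [chart_mul_pow, hhb, hT]
  obtain ⟨d, c, hc, hcy, hcz⟩ := exists_smul_eq_zero hF z i le_rfl hzi (y := y)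
    ((ProjectiveSpectrum.mem_basicOpen 𝒜 _ y).mpr hi)
  refine ⟨d + (N0 + K), c * v i ^ (N0 + K), SetLike.mul_mem_graded hc (pow_mem_one 𝒜 (hv i) _),
    not_mem_mul 𝒜 hcy (not_mem_pow 𝒜 hi _), ?_⟩
  have hz : ofG 𝒜 v hv F _ z = v i ^ (N0 + K) • ofG 𝒜 v hv F n t -
      ∑ l, (v i ^ n * b l) • ofG 𝒜 v hv F N0 (T ⟨i, l⟩) := by
    rw [map_sub, map_sum, smul_ofG (pow_mem_one 𝒜 (hv i) (N0 + K)) t]
    congr 1
    · exact ofG_congr (by omega) _ _ rfl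
    · exact Finset.sum_congr rfl fun l _ => (smul_ofG (hvb l) (T ⟨i, l⟩)).symm
  rw [hz, smul_sub, sub_eq_zero] at hcz
  rw [mul_smul, hcz]
  exact Submodule.smul_mem _ _ (Submodule.sum_mem _ fun l _ =>
    Submodule.smul_mem _ _ (Submodule.subset_span ⟨⟨i, l⟩, rfl⟩))

lemma pt_fracSect {M : Type u} [AddCommGroup M] [Module R M] [Module A M] (ℳ : ℕ → Submodule R M)
    [SetLike.GradedSMul 𝒜 ℳ] {n : ℤ} {i j : ℕ} {a : M} {g : A} (ha : a ∈ ℳ i) (hg : g ∈ 𝒜 j)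
    (hn : (i : ℤ) = j + n) (U : (Proj 𝒜).Opens) (hU : ∀ y : U, g ∉ y.1.asHomogeneousIdeal) (y : U) :
    pt 𝒜 ℳ (fracSect 𝒜 ℳ n ha hg hn U hU) y = fr 𝒜 y.1 a g (hU y) := rfl

/-- A graded submodule that is everything up to denominators has the same tilde. -/
lemma isIso_subTilde {M : Type u} [AddCommGroup M] [Module R M] [Module A M] [IsScalarTower R A M]
    (ℳ : ℕ → Submodule R M) [DirectSum.Decomposition ℳ] [SetLike.GradedSMul 𝒜 ℳ] (N : Submodule A M)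
    (hgen : ∀ (n : ℕ) (m : M), m ∈ ℳ n → ∀ x : ProjectiveSpectrum 𝒜,
      ∃ (d : ℕ) (c : A), c ∈ 𝒜 d ∧ c ∉ x.asHomogeneousIdeal ∧ c • m ∈ N) :
    IsIso (subTilde 𝒜 ℳ N) := by
  refine isIso_of_locally _ (fun U s s' h => pt_ext 𝒜 _ fun y => subLoc_injective 𝒜 N y.1 ?_) ?_
  · rw [← pt_subTilde, ← pt_subTilde, h]
  intro U s x hx
  obtain ⟨k, i', b, a, -, hb, ha, hn, hbx, hbU, hval⟩ := exists_frac_nhd 𝒜 ℳ
    (U := op U) (s : GrTilde.sect 𝒜 ℳ 0 (op U)) ⟨x, hx⟩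
  have hk : i' = k := by omega
  subst hk
  obtain ⟨d, c, hc, hcx, hct⟩ := hgen i' a ha x
  have ha' : (⟨c • a, hct⟩ : N) ∈ subPiece ℳ N (d + i') := smul_mem_graded 𝒜 ℳ hc ha
  refine ⟨Proj.basicOpen 𝒜 (c * b), fun z hz => hbU ((ProjectiveSpectrum.mem_basicOpen 𝒜 b z).mpr
    (right_not_mem 𝒜 ((ProjectiveSpectrum.mem_basicOpen 𝒜 _ z).mp hz))),
    (ProjectiveSpectrum.mem_basicOpen 𝒜 _ x).mpr (not_mem_mul 𝒜 hcx hbx),
    fracSect 𝒜 (subPiece ℳ N) 0 ha' (SetLike.mul_mem_graded hc hb) (by simp) _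
      (fun z => (ProjectiveSpectrum.mem_basicOpen 𝒜 _ z.1).mp z.2), pt_ext 𝒜 _ fun y => ?_⟩
  have hcb := (ProjectiveSpectrum.mem_basicOpen 𝒜 _ y.1).mp y.2
  rw [pt_subTilde, pt_res]
  have h1 := hval ⟨y.1, hbU ((ProjectiveSpectrum.mem_basicOpen 𝒜 b y.1).mpr (right_not_mem 𝒜 hcb))⟩
    (right_not_mem 𝒜 hcb)
  rw [pt_fracSect, subLoc_fr]
  refine Eq.trans ?_ h1.symm
  exact fr_congr 𝒜 y.1 _ _ (show b • c • a = (c * b) • a by rw [smul_smul, mul_comm])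

/-- `F ≅ N~` for a finitely generated graded `N`. -/
theorem exists_finite (hv : ∀ i, v i ∈ 𝒜 1) (hF : Coh.IsQCoh F) (hFT : CohB1.IsFT F)
    (hcov : ∀ x : ProjectiveSpectrum 𝒜, ∃ i, v i ∉ x.asHomogeneousIdeal) :
    ∃ (N : Type u) (_ : AddCommGroup N) (_ : Module R N) (_ : Module A N) (_ : IsScalarTower R A N)
      (𝒩 : ℕ → Submodule R N) (_ : DirectSum.Decomposition 𝒩) (_ : SetLike.GradedSMul 𝒜 𝒩),
      Module.Finite A N ∧ Nonempty (GrTilde.tilde 𝒜 𝒩 0 ≅ F) := by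
  obtain ⟨κ, hκ, e, g, hg, hgen⟩ := exists_generators (hv := hv) hF hFT hcov
  let P := Submodule.span A (Set.range g)
  letI : DirectSum.Decomposition (subPiece (piece 𝒜 v hv F) P) :=
    subDecomposition (piece 𝒜 v hv F) P fun z hz k =>
      component_mem_span 𝒜 (piece 𝒜 v hv F) e g hg hz k
  haveI := isIso_toTilde (hv := hv) hF hcov
  haveI : IsIso (subTilde 𝒜 (piece 𝒜 v hv F) P) :=
    isIso_subTilde (piece 𝒜 v hv F) P (fun n m hm x => by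
      obtain ⟨t, rfl⟩ := hm
      exact hgen n t x)
  exact ⟨P, inferInstance, inferInstance, inferInstance, inferInstance,
    subPiece (piece 𝒜 v hv F) P, inferInstance, inferInstance,
    Module.Finite.iff_fg.mpr (Submodule.fg_span (Set.finite_range g)),
    ⟨asIso (subTilde 𝒜 (piece 𝒜 v hv F) P) ≪≫ (asIso (toTilde hv hF hcov)).symm⟩⟩

end GrT
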