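import Groth.Agent.GrT.Twist
import Groth.Agent.GrT.GammaFinite
import Groth.Prelude.Def_FlatMod2

/-!
Global generation of `O(n)`; quotients of sums of negative twists.
-/

set_option autoImplicit false
set_option backward.isDefEq.respectTransparency false

universe u

open CategoryTheory CategoryTheory.Limits DirectSum TopologicalSpace AlgebraicGeometry Opposite
open Groth.Agent.QC (res resO res_res res_smul resO_resO app_res)

noncomputable section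

namespace GrT

/-- `c ↦ c • e` on sections. -/
def sectionApp {X : Scheme.{u}} (M : X.Modules) (e : Γ(M, ⊤)) (W : X.Opens) :
    Γ(Coh.structureModule X, W) →+ Γ(M, W) :=
  AddMonoidHom.mk' (fun c : Γ(X, W) => (c • res M (le_top : W ≤ ⊤) e : Γ(M, W)))
    (fun a b => add_smul (R := Γ(X, W)) a b _)

/-- The morphism given by a global section. -/
def homOfSection {X : Scheme.{u}} (M : X.Modules) (e : Γ(M, ⊤)) : Coh.structureModule X ⟶ M :=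
  ⟨PresheafOfModules.homMk
    { app := fun W => AddCommGrpCat.ofHom (sectionApp M e W.unop)
      naturality := fun W W' h => by
        ext (c : Γ(X, W.unop))
        change HSMul.hSMul (α := Γ(X, W'.unop)) (β := Γ(M, W'.unop)) (γ := Γ(M, W'.unop))
            (X.presheaf.map h c) (res M (le_top : W'.unop ≤ ⊤) e) =
          res M (leOfHom h.unop) (c • res M (le_top : W.unop ≤ ⊤) e)
        rw [res_smul, res_res]
        rfl }
    fun W r c => by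
      change HMul.hMul (α := Γ(X, W.unop)) (β := Γ(X, W.unop)) (γ := Γ(X, W.unop)) r c •
          res M (le_top : W.unop ≤ ⊤) e =
        HSMul.hSMul (α := Γ(X, W.unop)) (β := Γ(M, W.unop)) (γ := Γ(M, W.unop)) r
          (HSMul.hSMul (α := Γ(X, W.unop)) (β := Γ(M, W.unop)) (γ := Γ(M, W.unop)) c
            (res M (le_top : W.unop ≤ ⊤) e))
      exact mul_smul (α := Γ(X, W.unop)) r c _⟩

lemma homOfSection_app {X : Scheme.{u}} (M : X.Modules) (e : Γ(M, ⊤)) (W : X.Opens) (c : Γ(X, W)) :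
    (homOfSection M e).app W c = c • res M le_top e := rfl

variable {R A : Type u} [CommRing R] [CommRing A] [Algebra R A] {𝒜 : ℕ → Submodule R A}
  [GradedAlgebra 𝒜]

/-- `O(n)` is globally generated by the `f ^ n`. -/
theorem exists_epi_free (s : Finset A) (hs1 : ∀ f ∈ s, f ∈ 𝒜 1)
    (hcov : ∀ x : ProjectiveSpectrum 𝒜, ∃ f ∈ s, f ∉ x.asHomogeneousIdeal) (n : ℕ) :
    ∃ (k : ℕ) (p : FlatMod.freeMod (Proj 𝒜) k ⟶ Twist.twist 𝒜 (n : ℤ)), Epi p := by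
  let g : Fin s.card → A := fun l => (s.equivFin.symm l : A)
  have hg : ∀ l, g l ^ n ∈ 𝒜 n := fun l => pow_mem_one 𝒜 (hs1 _ (s.equivFin.symm l).2) n
  have h1 : ∀ y : (⊤ : (Proj 𝒜).Opens), (1 : A) ∉ y.1.asHomogeneousIdeal := fun y h =>
    y.1.isPrime.ne_top ((Ideal.eq_top_iff_one _).mpr h)
  let e : Fin s.card → Γ(GrTilde.tilde 𝒜 𝒜 (n : ℤ), ⊤) := fun l =>
    fracSect 𝒜 𝒜 (n : ℤ) (hg l) (SetLike.GradedOne.one_mem (A := 𝒜)) (by simp) ⊤ h1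
  refine ⟨s.card, Sigma.desc fun l => homOfSection _ (e l), InvGen.epi_of_locally _ fun U t x hx => ?_⟩
  obtain ⟨f, hf, hfx⟩ := hcov x
  obtain ⟨l, rfl⟩ : ∃ l, g l = f := ⟨s.equivFin ⟨f, hf⟩, by simp [g]⟩
  let V := U ⊓ Proj.basicOpen 𝒜 (g l)
  have hV : V ≤ Proj.basicOpen 𝒜 (g l ^ n) := fun y hy =>
    (ProjectiveSpectrum.mem_basicOpen 𝒜 _ y).mpr
      (not_mem_pow 𝒜 ((ProjectiveSpectrum.mem_basicOpen 𝒜 _ y).mp hy.2) n)
  have hV1 : V ≤ Proj.basicOpen 𝒜 (1 : A) := fun y hy =>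
    (ProjectiveSpectrum.mem_basicOpen 𝒜 _ y).mpr (h1 ⟨y, trivial⟩)
  obtain ⟨c, hc⟩ := (twistGen_bijective 𝒜 (hg l) (SetLike.GradedOne.one_mem (A := 𝒜))
    (by simp : (n : ℤ) = ((0 : ℕ) : ℤ) + n) hV hV1 V le_rfl).2
    (res (GrTilde.tilde 𝒜 𝒜 (n : ℤ)) (inf_le_left : V ≤ U) t)
  refine ⟨V, inf_le_left, ⟨hx, (ProjectiveSpectrum.mem_basicOpen 𝒜 _ x).mpr hfx⟩,
    (Sigma.ι (fun _ : Fin s.card => Coh.structureModule (Proj 𝒜)) l).app V c, ?_⟩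
  refine (congrArg (fun q : Coh.structureModule (Proj 𝒜) ⟶ GrTilde.tilde 𝒜 𝒜 (n : ℤ) => q.app V c)
    (Sigma.ι_desc (fun l => homOfSection (GrTilde.tilde 𝒜 𝒜 (n : ℤ)) (e l)) l)).trans ?_
  rw [homOfSection_app]
  exact hc

section Shift

variable {M : Type u} [AddCommGroup M] [Module R M] [Module A M] (ℳ : ℕ → Submodule R M)
  [SetLike.GradedSMul 𝒜 ℳ] {n : ℕ} {m : M} (hm : m ∈ ℳ n)

/-- `A_x → M_x`, `a/g ↦ a m/g`. -/
def shiftLoc (m : M) (x : ProjectiveSpectrum 𝒜) :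
    GrTilde.LocMod 𝒜 (M := A) x →ₗ[Localization.AtPrime x.asHomogeneousIdeal.toIdeal]
      GrTilde.LocMod 𝒜 (M := M) x :=
  LocalizedModule.map x.asHomogeneousIdeal.toIdeal.primeCompl (LinearMap.toSpanSingleton A M m)

omit [Module R M] in
lemma shiftLoc_fr (m : M) (x : ProjectiveSpectrum 𝒜) (a : A) {g : A}
    (hg : g ∉ x.asHomogeneousIdeal) :
    shiftLoc m x (fr 𝒜 x a g hg) = fr 𝒜 x (a • m) g hg :=
  LocalizedModule.map_mk _ _ _ _

include hm in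
lemma shiftLoc_mem (x : ProjectiveSpectrum 𝒜) {q : GrTilde.LocMod 𝒜 (M := A) x}
    (hq : q ∈ GrTilde.tildeAt 𝒜 𝒜 (-(n : ℤ)) x) :
    shiftLoc m x q ∈ GrTilde.tildeAt 𝒜 ℳ 0 x := by
  obtain ⟨i, j, a, g, hg, ha, hgj, hn, rfl⟩ := exists_frac_at 𝒜 𝒜 (-(n : ℤ)) x hq
  rw [shiftLoc_fr]
  exact Submodule.subset_span ⟨i + n, j, ⟨a • m, smul_mem_graded 𝒜 ℳ ha hm⟩, ⟨g, hgj⟩, hg,
    by push_cast; omega, rfl⟩

/-- The map on sections. -/
def shiftFun {U : (Proj 𝒜).Opens} (s : GrTilde.sect 𝒜 𝒜 (-(n : ℤ)) (op U)) :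
    GrTilde.sect 𝒜 ℳ 0 (op U) :=
  ⟨fun y => ⟨shiftLoc m y.1 (s.1 y).1, shiftLoc_mem ℳ hm y.1 (s.1 y).2⟩, fun y => by
    obtain ⟨V, hy, ι, i, j, a, t, nin, hc, w⟩ := s.2 y
    refine ⟨V, hy, ι, i + n, j, ⟨(a : A) • m, smul_mem_graded 𝒜 ℳ a.2 hm⟩, t, nin, ?_, fun z => ?_⟩
    · rcases hc with hc | hc
      · exact Or.inl (by push_cast; omega)
      · exact Or.inr (show (a : A) • m = 0 by rw [show (a : A) = 0 from hc, zero_smul])
    · change shiftLoc m z.1 (s.1 (ι z)).1 = _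
      rw [w z]
      exact shiftLoc_fr m z.1 _ _⟩

/-- `A(-n)~ ⟶ M~` given by an element of degree `n`. -/
def shiftTilde : GrTilde.tilde 𝒜 𝒜 (-(n : ℤ)) ⟶ GrTilde.tilde 𝒜 ℳ 0 :=
  ⟨PresheafOfModules.homMk
    { app := fun U => AddCommGrpCat.ofHom
        (AddMonoidHom.mk' (fun s : Γ(GrTilde.tilde 𝒜 𝒜 (-(n : ℤ)), U.unop) =>
          (shiftFun ℳ hm s : Γ(GrTilde.tilde 𝒜 ℳ 0, U.unop)))
          fun s t => sect_ext 𝒜 ℳ fun y => map_add (shiftLoc m y.1) _ _)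
      naturality := fun _ _ _ => rfl }
    fun U c s => sect_ext 𝒜 ℳ fun y =>
      LinearMap.map_smul (shiftLoc m y.1) ((c : Twist.O (𝒜 := 𝒜) U).1 y).val _⟩

lemma pt_shiftTilde {U : (Proj 𝒜).Opens} (s : Γ(GrTilde.tilde 𝒜 𝒜 (-(n : ℤ)), U)) (y : U) :
    pt 𝒜 ℳ ((shiftTilde ℳ hm).app U s) y = shiftLoc m y.1 (pt 𝒜 𝒜 s y) := rfl

end Shift

variable {ι : Type u} [Finite ι] {v : ι → A} {F : (Proj 𝒜).Modules}

lemma pt_sum {M : Type u} [AddCommGroup M] [Module R M] [Module A M] (ℳ : ℕ → Submodule R M)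
    [SetLike.GradedSMul 𝒜 ℳ] {N : ℤ} {U : (Proj 𝒜).Opens} {κ : Type*} (S : Finset κ)
    (s : κ → Γ(GrTilde.tilde 𝒜 ℳ N, U)) (y : U) :
    pt 𝒜 ℳ (∑ p ∈ S, s p) y = ∑ p ∈ S, pt 𝒜 ℳ (s p) y := by
  classical
  induction S using Finset.induction_on with
  | empty => rw [Finset.sum_empty, Finset.sum_empty]; rfl
  | insert a S ha ih => rw [Finset.sum_insert ha, Finset.sum_insert ha, ← ih]; rfl

lemma fr_sum {M : Type u} [AddCommGroup M] [Module A M] (x : ProjectiveSpectrum 𝒜) {g : A}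
    (hg : g ∉ x.asHomogeneousIdeal) {κ : Type*} (S : Finset κ) (a : κ → M) :
    ∑ p ∈ S, fr 𝒜 x (a p) g hg = fr 𝒜 x (∑ p ∈ S, a p) g hg := by
  classical
  induction S using Finset.induction_on with
  | empty => rw [Finset.sum_empty, Finset.sum_empty, fr_zero]
  | insert p S hp ih =>
    rw [Finset.sum_insert hp, Finset.sum_insert hp, ih, fr_add]
    exact fr_congr 𝒜 x _ _ (by simp only [mul_smul, smul_add])

/-- A finitely generated graded module is a quotient of negative twists. -/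
lemma epi_shiftTilde {M : Type u} [AddCommGroup M] [Module R M] [Module A M]
    (ℳ : ℕ → Submodule R M) [DirectSum.Decomposition ℳ] [SetLike.GradedSMul 𝒜 ℳ] {n k : ℕ}
    (g : Fin k → M) (hg : ∀ p, g p ∈ ℳ n)
    (hgen : ∀ (l : ℕ) (m : M), m ∈ ℳ l → ∀ x : ProjectiveSpectrum 𝒜,
      ∃ (d : ℕ) (c : A), c ∈ 𝒜 d ∧ c ∉ x.asHomogeneousIdeal ∧
        c • m ∈ Submodule.span A (Set.range g)) :
    Epi (Sigma.desc fun p => shiftTilde (𝒜 := 𝒜) ℳ (hg p)) := by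
  refine InvGen.epi_of_locally _ fun U s x hx => ?_
  obtain ⟨l, i', b, a, -, hb, ha, hn, hbx, hbU, hval⟩ := exists_frac_nhd 𝒜 ℳ
    (U := op U) (s : GrTilde.sect 𝒜 ℳ 0 (op U)) ⟨x, hx⟩
  have hl : i' = l := by omega
  subst hl
  obtain ⟨d0, f0, hd0, hf0, hf0x⟩ := exists_pos_homog 𝒜 x
  obtain ⟨d1, c1, hc1, hc1x, hct1⟩ := hgen i' a ha x
  let c := f0 ^ n * c1
  let d := n * d0 + d1
  have hc : c ∈ 𝒜 d := SetLike.mul_mem_graded (SetLike.pow_mem_graded n hf0) hc1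
  have hct : c • a ∈ Submodule.span A (Set.range g) := by
    rw [mul_smul]; exact Submodule.smul_mem _ _ hct1
  obtain ⟨r, hr⟩ := Submodule.mem_span_range_iff_exists_fun A |>.mp hct
  have hnd : n ≤ d + i' := le_trans (Nat.le_mul_of_pos_right n hd0)
    (by simp only [d]; omega)
  have hsum : ∑ p, cmp 𝒜 (r p) (d + i' - n) • g p = c • a := by
    have h1 := congrArg (fun z => (decompose ℳ z (d + i') : M)) hr
    simp only [decompose_of_mem_same ℳ (smul_mem_graded 𝒜 ℳ hc ha)] at h1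
    refine Eq.trans ?_ h1
    rw [decompose_sum, DFinsupp.finsetSum_apply, AddSubmonoidClass.coe_finsetSum]
    refine Finset.sum_congr rfl fun p _ => ?_
    have := decompose_smul_of_mem 𝒜 ℳ (r p) (hg p) (d + i' - n)
    rw [Nat.sub_add_cancel hnd] at this
    exact this.symm
  let V := Proj.basicOpen 𝒜 (c * b)
  have hVU : V ≤ U := fun z hz => hbU ((ProjectiveSpectrum.mem_basicOpen 𝒜 b z).mpr
    (right_not_mem 𝒜 ((ProjectiveSpectrum.mem_basicOpen 𝒜 _ z).mp hz)))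
  let t : Fin k → Γ(GrTilde.tilde 𝒜 𝒜 (-(n : ℤ)), V) := fun p =>
    fracSect 𝒜 𝒜 (-(n : ℤ)) (cmp_mem 𝒜 (r p) (d + i' - n)) (SetLike.mul_mem_graded hc hb)
      (by omega) V fun z => (ProjectiveSpectrum.mem_basicOpen 𝒜 _ z.1).mp z.2
  refine ⟨V, hVU, (ProjectiveSpectrum.mem_basicOpen 𝒜 _ x).mpr
    (not_mem_mul 𝒜 (not_mem_mul 𝒜 (not_mem_pow 𝒜 hf0x n) hc1x) hbx),
    ∑ p, (Sigma.ι (fun _ : Fin k => GrTilde.tilde 𝒜 𝒜 (-(n : ℤ))) p).app V (t p),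
    pt_ext 𝒜 ℳ fun y => ?_⟩
  have hcb := (ProjectiveSpectrum.mem_basicOpen 𝒜 _ y.1).mp y.2
  have happ : ∀ p, (Sigma.desc fun p => shiftTilde (𝒜 := 𝒜) ℳ (hg p)).app V
      ((Sigma.ι (fun _ : Fin k => GrTilde.tilde 𝒜 𝒜 (-(n : ℤ))) p).app V (t p)) =
      (shiftTilde ℳ (hg p)).app V (t p) := fun p =>
    congrArg (fun q : GrTilde.tilde 𝒜 𝒜 (-(n : ℤ)) ⟶ GrTilde.tilde 𝒜 ℳ 0 => q.app V (t p))
      (Sigma.ι_desc (fun p => shiftTilde (𝒜 := 𝒜) ℳ (hg p)) p)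
  rw [map_sum, Finset.sum_congr rfl fun p _ => happ p, pt_sum, pt_res]
  refine Eq.trans ?_ (hval ⟨y.1, hVU y.2⟩ (right_not_mem 𝒜 hcb)).symm
  calc ∑ p, pt 𝒜 ℳ ((shiftTilde ℳ (hg p)).app V (t p)) y
      = ∑ p, fr 𝒜 y.1 (cmp 𝒜 (r p) (d + i' - n) • g p) (c * b) hcb :=
        Finset.sum_congr rfl fun p _ => by rw [pt_shiftTilde]; exact shiftLoc_fr (g p) y.1 _ hcb
    _ = fr 𝒜 y.1 (c • a) (c * b) hcb := by rw [fr_sum, hsum]
    _ = _ := fr_congr 𝒜 y.1 _ _ (by rw [smul_smul, mul_comm])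

lemma exists_epi_of_isIso {X : Scheme.{u}} {P Q F : X.Modules} (p : P ⟶ Q) (e : F ⟶ Q)
    (he : IsIso e) (hp : Epi p) : ∃ q : P ⟶ F, Epi q :=
  ⟨p ≫ inv e, epi_comp _ _⟩

/-- FT quasi-coherent modules are quotients of negative twists. -/
theorem exists_epi_twists (hv : ∀ i, v i ∈ 𝒜 1) (hF : Coh.IsQCoh F) (hFT : CohB1.IsFT F)
    (hcov : ∀ x : ProjectiveSpectrum 𝒜, ∃ i, v i ∉ x.asHomogeneousIdeal) :
    ∃ n₀ : ℕ, ∀ n : ℕ, n₀ ≤ n →
      ∃ (k : ℕ) (p : (∐ fun _ : Fin k => Twist.twist 𝒜 (-(n : ℤ))) ⟶ F), Epi p := by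
  classical
  obtain ⟨κ, hκ, e, g, hg, hgen⟩ := exists_generators (hv := hv) hF hFT hcov
  haveI := Fintype.ofFinite κ
  haveI := Fintype.ofFinite ι
  refine ⟨Finset.univ.sup e, fun n hn => ?_⟩
  let σ := (Fintype.equivFin (κ × ι)).symm
  let g' : Fin (Fintype.card (κ × ι)) → Gam 𝒜 v hv F := fun q =>
    v (σ q).2 ^ (n - e (σ q).1) • g (σ q).1
  have hg' : ∀ q, g' q ∈ piece 𝒜 v hv F n := fun q => by
    have := smul_mem_graded 𝒜 (piece 𝒜 v hv F) (pow_mem_one 𝒜 (hv (σ q).2) (n - e (σ q).1))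
      (hg (σ q).1)
    rwa [Nat.sub_add_cancel ((Finset.le_sup (Finset.mem_univ (σ q).1)).trans hn)] at this
  have hgen' : ∀ (l : ℕ) (m : Gam 𝒜 v hv F), m ∈ piece 𝒜 v hv F l → ∀ x : ProjectiveSpectrum 𝒜,
      ∃ (d : ℕ) (c : A), c ∈ 𝒜 d ∧ c ∉ x.asHomogeneousIdeal ∧
        c • m ∈ Submodule.span A (Set.range g') := by
    rintro l _ ⟨t, rfl⟩ x
    obtain ⟨i, hi⟩ := hcov x
    obtain ⟨d, c, hc, hcx, hct⟩ := hgen l t x
    refine ⟨n + d, v i ^ n * c, SetLike.mul_mem_graded (pow_mem_one 𝒜 (hv i) n) hc,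
      not_mem_mul 𝒜 (not_mem_pow 𝒜 hi n) hcx, ?_⟩
    obtain ⟨r, hr⟩ := Submodule.mem_span_range_iff_exists_fun A |>.mp hct
    rw [mul_smul, ← hr, Finset.smul_sum]
    refine Submodule.sum_mem _ fun p _ => ?_
    have hle : e p ≤ n := (Finset.le_sup (Finset.mem_univ p)).trans hn
    have h1 : v i ^ n • r p • g p = (v i ^ e p * r p) • v i ^ (n - e p) • g p := by
      rw [smul_smul, smul_smul]
      congr 1
      conv_lhs => rw [show n = e p + (n - e p) by omega, pow_add]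
      ring
    rw [h1]
    exact Submodule.smul_mem _ _ (Submodule.subset_span ⟨σ.symm (p, i), by simp [g']⟩)
  exact ⟨_, exists_epi_of_isIso _ _ (isIso_toTilde (hv := hv) hF hcov)
    (epi_shiftTilde (𝒜 := 𝒜) (piece 𝒜 v hv F) g' hg' hgen')⟩

end GrT
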