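import Groth.Agent.GrT.TwistTensor
import Groth.Agent.GrT.TwistEpi
import Groth.Agent.TMul.GenLocus

/-!
`O(1)` is ample.
-/

set_option autoImplicit false
set_option backward.isDefEq.respectTransparency false

universe u

open CategoryTheory CategoryTheory.Limits DirectSum TopologicalSpace AlgebraicGeometry Opposite
open Groth.Agent.QC (res resO res_res res_smul resO_resO app_res)

noncomputable section

namespace GrT

variable {R A : Type u} [CommRing R] [CommRing A] [Algebra R A] {𝒜 : ℕ → Submodule R A}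
  [GradedAlgebra 𝒜]

/-- The section `f` of `O(1)`. -/
def linearSection {f : A} (hf : f ∈ 𝒜 1) : Γ(GrTilde.tilde 𝒜 𝒜 (1 : ℤ), ⊤) :=
  fracSect 𝒜 𝒜 (1 : ℤ) hf (SetLike.GradedOne.one_mem (A := 𝒜)) (by simp) ⊤
    fun y h => y.1.isPrime.ne_top ((Ideal.eq_top_iff_one _).mpr h)

lemma genLocus_linearSection (hcov : ∀ x : ProjectiveSpectrum 𝒜, ∃ g ∈ 𝒜 1, g ∉ x.asHomogeneousIdeal)
    {f : A} (hf : f ∈ 𝒜 1) :
    CohB1.genLocus _ (homOfSection _ (linearSection (𝒜 := 𝒜) hf)) = Proj.basicOpen 𝒜 f := by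
  have hone : ∀ V : (Proj 𝒜).Opens, V ≤ Proj.basicOpen 𝒜 (1 : A) :=
    fun V => le_top.trans (Proj.basicOpen_one 𝒜).ge
  have hval : ∀ W : (Proj 𝒜).Opens, TMul.val (homOfSection _ (linearSection (𝒜 := 𝒜) hf)) W =
      res _ le_top (linearSection (𝒜 := 𝒜) hf) := fun W =>
    (homOfSection_app _ _ W 1).trans (one_smul _ _)
  apply le_antisymm
  · intro x hx
    obtain ⟨U, hxU, hU⟩ := (TMul.mem_genLocus_iff _).mp hx
    obtain ⟨g, hg, hgx⟩ := hcov x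
    refine (ProjectiveSpectrum.mem_basicOpen 𝒜 f x).mpr fun hfx => ?_
    let W := U ⊓ Proj.basicOpen 𝒜 g
    obtain ⟨c, hc⟩ := (hU W inf_le_left).2 (res _ le_top (linearSection (𝒜 := 𝒜) hg))
    let y : W := ⟨x, hxU, (ProjectiveSpectrum.mem_basicOpen 𝒜 g x).mpr hgx⟩
    rw [hval, res_res] at hc
    have h1 := congrArg (fun w => pt 𝒜 𝒜 w y) hc
    simp only [pt_smul] at h1
    obtain ⟨⟨k, ⟨a, ha⟩, ⟨t, ht⟩, htx⟩, hct⟩ :=
      HomogeneousLocalization.mk_surjective ((c : Twist.O (𝒜 := 𝒜) (op W)).1 y)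
    rw [← hct, HomogeneousLocalization.val_mk] at h1
    have h2 : (Localization.mk a ⟨t, htx⟩ : Twist.Loc 𝒜 x) •
        fr 𝒜 x f 1 (fun h => x.isPrime.ne_top ((Ideal.eq_top_iff_one _).mpr h)) =
        fr 𝒜 x g 1 (fun h => x.isPrime.ne_top ((Ideal.eq_top_iff_one _).mpr h)) := h1
    rw [loc_smul_fr, fr_eq_iff] at h2
    obtain ⟨u, hu, h3⟩ := h2
    simp only [mul_one, one_smul, smul_eq_mul, one_mul, mul_sub, sub_eq_zero] at h3
    exact not_mem_mul 𝒜 hu (not_mem_mul 𝒜 htx hgx)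
      (h3 ▸ Ideal.mul_mem_left _ _ (Ideal.mul_mem_left _ _ hfx))
  · refine TMul.le_genLocus _ ?_
    rw [hval]
    exact twistGen_bijective 𝒜 hf (SetLike.GradedOne.one_mem (A := 𝒜)) (by simp) le_rfl (hone _)

theorem isAmple_twist_one (s : Finset A) (hs1 : ∀ f ∈ s, f ∈ 𝒜 1)
    (hcov : ∀ x : ProjectiveSpectrum 𝒜, ∃ f ∈ s, f ∉ x.asHomogeneousIdeal) :
    CohB1.IsAmple (GrTilde.tilde 𝒜 𝒜 (1 : ℤ)) := by
  classical
  have hcov' : ∀ x : ProjectiveSpectrum 𝒜, ∃ f ∈ 𝒜 1, f ∉ x.asHomogeneousIdeal := fun x => by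
    obtain ⟨f, hf, hfx⟩ := hcov x; exact ⟨f, hs1 f hf, hfx⟩
  refine ⟨isInvertible_twist hcov' 1, ⟨?_⟩, fun x => ?_⟩
  · have : (Set.univ : Set (Proj 𝒜)) = ⋃ f ∈ s, (Proj.basicOpen 𝒜 f : Set (Proj 𝒜)) := by
      refine (Set.eq_univ_of_forall fun x => ?_).symm
      obtain ⟨f, hf, hfx⟩ := hcov x
      exact Set.mem_iUnion₂.mpr ⟨f, hf, (ProjectiveSpectrum.mem_basicOpen 𝒜 f x).mpr hfx⟩
    rw [this]
    exact s.isCompact_biUnion fun f hf =>
      (ProjLib.isAffineOpen_basicOpen 𝒜 (hs1 f hf) one_pos).isCompact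
  obtain ⟨f, hf, hfx⟩ := hcov x
  obtain ⟨e⟩ := nonempty_iso_tensorPow hcov' 1
  refine ⟨0, homOfSection _ (linearSection (𝒜 := 𝒜) (hs1 f hf)) ≫ e.hom, ?_, ?_⟩
  · rw [TMul.genLocus_comp, genLocus_linearSection hcov' (hs1 f hf)]
    exact (ProjectiveSpectrum.mem_basicOpen 𝒜 f x).mpr hfx
  · rw [TMul.genLocus_comp, genLocus_linearSection hcov' (hs1 f hf)]
    exact ProjLib.isAffineOpen_basicOpen 𝒜 (hs1 f hf) one_pos

end GrT
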