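import Groth.Agent.GrT.QCoh

/-!
Vanishing and finite type of `GrTilde.tilde`.
-/

set_option autoImplicit false
set_option backward.isDefEq.respectTransparency false

universe u

open CategoryTheory CategoryTheory.Limits DirectSum TopologicalSpace AlgebraicGeometry Opposite
open Groth.Agent.QC (res resO)

noncomputable section

namespace GrT

lemma isZero_modules_of_subsingleton {X : Scheme.{u}} {M : X.Modules}
    (h : ∀ (U : X.Opens) (s : Γ(M, U)), s = 0) : IsZero M :=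
  (IsZero.iff_id_eq_zero M).mpr (Scheme.Modules.hom_ext _ _ fun U => by
    ext s
    exact (h U s).trans (h U _).symm)

lemma eq_zero_of_isZero_modules {X : Scheme.{u}} {M : X.Modules} (h : IsZero M) {U : X.Opens}
    (s : Γ(M, U)) : s = 0 :=
  congrArg (fun p : M ⟶ M => p.app U s) ((IsZero.iff_id_eq_zero M).mp h)

variable {R A : Type u} [CommRing R] [CommRing A] [Algebra R A] (𝒜 : ℕ → Submodule R A)
  [GradedAlgebra 𝒜]
variable {M : Type u} [AddCommGroup M] [Module R M] [Module A M] (ℳ : ℕ → Submodule R M)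
variable [SetLike.GradedSMul 𝒜 ℳ]

theorem isZero_tilde_of_nilpotent
    (h : ∀ (z : M) (d : ℕ) (f : A), 0 < d → f ∈ 𝒜 d → ∃ k : ℕ, f ^ k • z = 0) :
    IsZero (GrTilde.tilde 𝒜 ℳ 0) :=
  isZero_modules_of_subsingleton fun U s => pt_ext 𝒜 ℳ fun y => by
    obtain ⟨e, i, g, a, he, hg, -, -, hgy, -, hs⟩ :=
      exists_frac_nhd 𝒜 ℳ (U := op U) (s : GrTilde.sect 𝒜 ℳ 0 (op U)) y
    obtain ⟨k, hk⟩ := h a e g he hg
    exact (hs y hgy).trans ((fr_eq_zero_iff 𝒜 y.1 hgy).mpr ⟨g ^ k, not_mem_pow 𝒜 hgy k, hk⟩)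

variable [DirectSum.Decomposition ℳ]

theorem nilpotent_of_isZero (hgen : (HomogeneousIdeal.irrelevant 𝒜).toIdeal = Ideal.span (𝒜 1 : Set A))
    (h : IsZero (GrTilde.tilde 𝒜 ℳ 0)) (z : M) (d : ℕ) (f : A) (hd : 0 < d) (hf : f ∈ 𝒜 d) :
    ∃ k : ℕ, f ^ k • z = 0 := by
  induction z using DirectSum.Decomposition.inductionOn ℳ with
  | zero => exact ⟨0, smul_zero _⟩
  | homogeneous z =>
    rename_i i
    have h1 : ∀ g ∈ 𝒜 1, ∃ k : ℕ, g ^ k • (z : M) = 0 := fun g hg =>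
      exists_pow_smul_eq_zero 𝒜 ℳ z.2 one_pos hg fun x hx => by
        let U := ProjectiveSpectrum.basicOpen 𝒜 g
        have hU : ∀ y : U, g ^ i ∉ y.1.asHomogeneousIdeal := fun y =>
          not_mem_pow 𝒜 ((ProjectiveSpectrum.mem_basicOpen 𝒜 g y.1).mp y.2) _
        have hgi : g ^ i ∈ 𝒜 i := by
          have := SetLike.pow_mem_graded i hg
          rwa [smul_eq_mul, mul_one] at this
        let s := fracSect 𝒜 ℳ 0 z.2 hgi (add_zero _).symm U hU
        have hs : (s : Γ(GrTilde.tilde 𝒜 ℳ 0, U)) = 0 := eq_zero_of_isZero_modules h _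
        exact (fr_eq_zero_iff 𝒜 x (hU ⟨x, (ProjectiveSpectrum.mem_basicOpen 𝒜 g x).mpr hx⟩)).mp
          (congrArg (fun t => pt 𝒜 ℳ t ⟨x, (ProjectiveSpectrum.mem_basicOpen 𝒜 g x).mpr hx⟩) hs)
    have hle : (HomogeneousIdeal.irrelevant 𝒜).toIdeal ≤
        Ideal.radical (LinearMap.ker (LinearMap.toSpanSingleton A M (z : M))) := by
      rw [hgen, Ideal.span_le]
      exact fun g hg => ⟨_, LinearMap.mem_ker.mpr (h1 g hg).choose_spec⟩
    obtain ⟨k, hk⟩ := hle (HomogeneousIdeal.mem_irrelevant_of_mem 𝒜 hd hf)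
    exact ⟨k, hk⟩
  | add a b ha hb =>
    obtain ⟨k, hk⟩ := ha
    obtain ⟨l, hl⟩ := hb
    refine ⟨k + l, ?_⟩
    rw [smul_add]
    conv_lhs => arg 1; rw [add_comm k l, pow_add, mul_smul, hk, smul_zero]
    rw [pow_add, mul_smul, hl, smul_zero, zero_add]

/-- Monomial generation of a graded ring over its degree zero part. -/
lemma mem_closure_of_generators {ι : Type*} [Fintype ι] {g : ι → A} {c : ι → ℕ}
    (hg : ∀ l, g l ∈ 𝒜 (c l)) (hc : ∀ l, 0 < c l)
    (hspan : (HomogeneousIdeal.irrelevant 𝒜).toIdeal ≤ Ideal.span (Set.range g))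
    (P : ℕ → A → Prop) (h0 : ∀ a ∈ 𝒜 0, P 0 a) (hadd : ∀ k a b, P k a → P k b → P k (a + b))
    (hzero : ∀ k, P k 0) (hmul : ∀ k l a, a ∈ 𝒜 k → P k a → P (k + c l) (a * g l)) :
    ∀ k, ∀ a ∈ 𝒜 k, P k a := by
  intro k
  induction k using Nat.strong_induction_on with
  | _ k ih =>
    intro a ha
    rcases Nat.eq_zero_or_pos k with rfl | hk
    · exact h0 a ha
    obtain ⟨b, hb⟩ := Submodule.mem_span_range_iff_exists_fun A |>.mp
      (hspan (HomogeneousIdeal.mem_irrelevant_of_mem 𝒜 hk ha))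
    have h1 := congrArg (GradedRing.proj 𝒜 k) hb
    simp only [map_sum, GradedRing.proj_apply, smul_eq_mul] at h1
    rw [decompose_of_mem_same 𝒜 ha] at h1
    rw [← h1]
    refine Finset.sum_induction _ (P k) (hadd k) (hzero k) fun l _ => ?_
    by_cases hl : c l ≤ k
    · rw [coe_decompose_mul_of_right_mem_of_le 𝒜 (hg l) hl]
      have := hmul (k - c l) l _ (cmp_mem 𝒜 (b l) (k - c l))
        (ih _ (Nat.sub_lt hk (hc l)) _ (cmp_mem 𝒜 (b l) (k - c l)))
      rwa [Nat.sub_add_cancel hl] at this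
    · rw [coe_decompose_mul_of_right_mem_of_not_le 𝒜 (hg l) hl]
      exact hzero k

include 𝒜 in
lemma decompose_smul_of_lt (u : A) {z : M} {e k : ℕ} (hz : z ∈ ℳ e) (hk : k < e) :
    (decompose ℳ (u • z) k : M) = 0 := by
  induction u using DirectSum.Decomposition.inductionOn 𝒜 with
  | zero => simp
  | homogeneous a => exact decompose_of_mem_ne ℳ (smul_mem_graded 𝒜 ℳ a.2 hz) (by omega)
  | add a b ha hb => rw [add_smul, decompose_add, DirectSum.add_apply, Submodule.coe_add, ha, hb, add_zero]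

/-- Finitely many homogeneous elements generating the tail. -/
lemma exists_tail_generators {n : ℕ}
    (h : (Submodule.span A (⋃ k ∈ Set.Ici n, (ℳ k : Set M))).FG) :
    ∃ (m : ℕ) (e : Fin m → ℕ) (a : Fin m → M), (∀ l, a l ∈ ℳ (e l)) ∧
      ∀ k, n ≤ k → ∀ z ∈ ℳ k, ∃ b : Fin m → A,
        (∀ l, b l ∈ 𝒜 (k - e l)) ∧ (∀ l, k < e l → b l = 0) ∧ z = ∑ l, b l • a l := by
  classical
  obtain ⟨t, ht⟩ := h
  obtain ⟨T, hTS, htT⟩ := Submodule.subset_span_finite_of_subset_span (R := A)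
    (s := ⋃ k ∈ Set.Ici n, (ℳ k : Set M)) (t := t) (ht ▸ Submodule.subset_span)
  have hmem : ∀ x : T, ∃ e, (x : M) ∈ ℳ e := fun x => by
    obtain ⟨e, -, he⟩ := Set.mem_iUnion₂.mp (hTS x.2)
    exact ⟨e, he⟩
  choose e he using hmem
  let σ := T.equivFin.symm
  refine ⟨T.card, fun l => e (σ l), fun l => (σ l : M), fun l => he _, fun k hk z hz => ?_⟩
  have hz' : z ∈ Submodule.span A (Set.range fun l => (σ l : M)) := by
    have h1 : z ∈ Submodule.span A (⋃ k ∈ Set.Ici n, (ℳ k : Set M)) :=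
      Submodule.subset_span (Set.mem_iUnion₂.mpr ⟨k, hk, hz⟩)
    rw [← ht] at h1
    have h2 : (Set.range fun l => (σ l : M)) = (T : Set M) := by
      ext x
      exact ⟨fun ⟨l, hl⟩ => hl ▸ (σ l).2, fun hx => ⟨σ.symm ⟨x, hx⟩, by simp⟩⟩
    rw [h2]
    exact Submodule.span_le.mpr htT h1
  obtain ⟨b, hb⟩ := Submodule.mem_span_range_iff_exists_fun A |>.mp hz'
  refine ⟨fun l => if e (σ l) ≤ k then cmp 𝒜 (b l) (k - e (σ l)) else 0, fun l => ?_,
    fun l hl => if_neg (by dsimp only at hl; omega), ?_⟩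
  · dsimp only
    split_ifs
    · exact cmp_mem 𝒜 _ _
    · exact zero_mem _
  · have h1 := congrArg (fun w => (decompose ℳ w k : M)) hb
    simp only [decompose_of_mem_same ℳ hz] at h1
    rw [decompose_sum] at h1
    refine h1.symm.trans ?_
    rw [DFinsupp.finsetSum_apply, AddSubmonoidClass.coe_finsetSum]
    refine Finset.sum_congr rfl fun l _ => ?_
    dsimp only
    split_ifs with hl
    · have := decompose_smul_of_mem 𝒜 ℳ (b l) (he (σ l)) (k - e (σ l))
      rwa [Nat.sub_add_cancel hl] at this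
    · rw [decompose_smul_of_lt 𝒜 ℳ (b l) (he (σ l)) (by omega), zero_smul]

theorem eventually_bot_of_isZero (hfg : (HomogeneousIdeal.irrelevant 𝒜).toIdeal.FG)
    (hgen : (HomogeneousIdeal.irrelevant 𝒜).toIdeal = Ideal.span (𝒜 1 : Set A))
    (hTF : ∃ n : ℕ, (Submodule.span A (⋃ k ∈ Set.Ici n, (ℳ k : Set M))).FG)
    (h : IsZero (GrTilde.tilde 𝒜 ℳ 0)) : ∃ n : ℕ, ∀ k : ℕ, n ≤ k → ℳ k = ⊥ := by
  classical
  obtain ⟨n, hn⟩ := hTF
  obtain ⟨m, e, a, ha, hrep⟩ := exists_tail_generators 𝒜 ℳ hn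
  have hann : ∀ l, ∃ N : ℕ, (HomogeneousIdeal.irrelevant 𝒜).toIdeal ^ N ≤
      LinearMap.ker (LinearMap.toSpanSingleton A M (a l)) := fun l =>
    Ideal.exists_pow_le_of_le_radical_of_fg (by
      refine le_of_eq_of_le hgen (Ideal.span_le.mpr fun g hg => ?_)
      exact ⟨_, (nilpotent_of_isZero 𝒜 ℳ hgen h (a l) 1 g one_pos hg).choose_spec⟩) hfg
  choose N hN using hann
  have hpow : ∀ (k : ℕ), ∀ x ∈ 𝒜 k, x ∈ (HomogeneousIdeal.irrelevant 𝒜).toIdeal ^ k := by
    intro k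
    induction k with
    | zero => exact fun x _ => by simp [Ideal.one_eq_top]
    | succ k ih =>
      intro x hx
      have h1 : x ∈ Ideal.span (𝒜 1 : Set A) :=
        hgen ▸ HomogeneousIdeal.mem_irrelevant_of_mem 𝒜 k.succ_pos hx
      obtain ⟨T, hT, hxT⟩ := Submodule.mem_span_finite_of_mem_span h1
      obtain ⟨b, -, hb⟩ := Submodule.mem_span_finset.mp hxT
      have h2 := congrArg (GradedRing.proj 𝒜 (k + 1)) hb
      simp only [map_sum, GradedRing.proj_apply, smul_eq_mul] at h2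
      rw [decompose_of_mem_same 𝒜 hx] at h2
      rw [← h2, pow_succ]
      refine Ideal.sum_mem _ fun g hg => ?_
      rw [coe_decompose_mul_of_right_mem_of_le 𝒜 (hT hg) (by omega), Nat.add_sub_cancel]
      exact Ideal.mul_mem_mul (ih _ (cmp_mem 𝒜 _ _))
        (HomogeneousIdeal.mem_irrelevant_of_mem 𝒜 one_pos (hT hg))
  refine ⟨n + Finset.univ.sup fun l => e l + N l, fun k hk => (Submodule.eq_bot_iff _).mpr fun z hz => ?_⟩
  obtain ⟨b, hb, -, rfl⟩ := hrep k (by omega) z hz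
  refine Finset.sum_eq_zero fun l _ => ?_
  have hle := Finset.le_sup (f := fun l => e l + N l) (Finset.mem_univ l)
  exact hN l (Ideal.pow_le_pow_right (by omega) (hpow _ _ (hb l)))

end GrT
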