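import Groth.Agent.GrT.Twist
import Groth.Agent.GrT.GammaIso
import Groth.Agent.TMul.Basic
import Groth.Prelude.Def_PicGrp

/-!
`M(a)~ ⊗ O(b) ≅ M(a+b)~` when the degree one part covers `Proj`.
-/

set_option autoImplicit false
set_option backward.isDefEq.respectTransparency false

universe u

open CategoryTheory DirectSum TopologicalSpace AlgebraicGeometry Opposite
open Groth.Agent.QC (res resO res_res res_smul resO_resO app_res)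

noncomputable section

namespace GrT

variable {R A : Type u} [CommRing R] [CommRing A] [Algebra R A] {𝒜 : ℕ → Submodule R A}
  [GradedAlgebra 𝒜]
variable {M : Type u} [AddCommGroup M] [Module R M] [Module A M] (ℳ : ℕ → Submodule R M)
  [SetLike.GradedSMul 𝒜 ℳ]

omit [SetLike.GradedSMul 𝒜 ℳ] [Module R M] in
lemma loc_smul_fr {x : ProjectiveSpectrum 𝒜} (r : A) (m : M) {g h : A}
    (hg : g ∉ x.asHomogeneousIdeal) (hh : h ∉ x.asHomogeneousIdeal) :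
    (Localization.mk r ⟨g, hg⟩ : Twist.Loc 𝒜 x) • fr 𝒜 x m h hh =
      fr 𝒜 x (r • m) (g * h) (not_mem_mul 𝒜 hg hh) := by
  rw [LocalizedModule.mk_smul_mk]
  rfl

/-- A value of `O(b)` as an element of `A_x`. -/
abbrev asLoc {x : ProjectiveSpectrum 𝒜} (q : GrTilde.LocMod 𝒜 (M := A) x) : Twist.Loc 𝒜 x := q

variable {a b c : ℤ}

/-- `(s, r) ↦ r • s`. -/
def mulSect (hc : a + b = c) {U : (Proj 𝒜).Opens} (s : Γ(GrTilde.tilde 𝒜 ℳ a, U))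
    (r : Γ(GrTilde.tilde 𝒜 𝒜 b, U)) : Γ(GrTilde.tilde 𝒜 ℳ c, U) :=
  (⟨fun y => ⟨asLoc (pt 𝒜 𝒜 r y) • pt 𝒜 ℳ s y, by
      obtain ⟨i, j, m, g, hg, hm, hgj, hn, e⟩ := exists_frac_at 𝒜 ℳ a y.1
        ((s : GrTilde.sect 𝒜 ℳ a (op U)).1 y).2
      obtain ⟨i', j', r', g', hg', hr', hgj', hn', e'⟩ := exists_frac_at 𝒜 𝒜 b y.1
        ((r : GrTilde.sect 𝒜 𝒜 b (op U)).1 y).2
      have h1 : pt 𝒜 ℳ s y = fr 𝒜 y.1 m g hg := e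
      have h2 : asLoc (pt 𝒜 𝒜 r y) = Localization.mk r' ⟨g', hg'⟩ := e'
      rw [h1, h2, loc_smul_fr]
      exact Submodule.subset_span ⟨i' + i, j' + j, ⟨r' • m, smul_mem_graded 𝒜 ℳ hr' hm⟩,
        ⟨g' * g, SetLike.mul_mem_graded hgj' hgj⟩, _, by push_cast; omega, rfl⟩⟩,
    fun y => by
      obtain ⟨e, i, g, m, -, hg, hm, hn, hgy, hgU, hval⟩ := exists_frac_nhd 𝒜 ℳ (U := op U)
        (s : GrTilde.sect 𝒜 ℳ a (op U)) y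
      obtain ⟨e', i', g', r', -, hg', hr', hn', hgy', hgU', hval'⟩ := exists_frac_nhd 𝒜 𝒜 (U := op U)
        (r : GrTilde.sect 𝒜 𝒜 b (op U)) y
      refine ⟨ProjectiveSpectrum.basicOpen 𝒜 (g' * g),
        (ProjectiveSpectrum.mem_basicOpen 𝒜 _ y.1).mpr (not_mem_mul 𝒜 hgy' hgy),
        homOfLE (fun z hz => hgU ((ProjectiveSpectrum.mem_basicOpen 𝒜 g z).mpr
          (right_not_mem 𝒜 ((ProjectiveSpectrum.mem_basicOpen 𝒜 _ z).mp hz)))),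
        i' + i, e' + e, ⟨r' • m, smul_mem_graded 𝒜 ℳ hr' hm⟩,
        ⟨g' * g, SetLike.mul_mem_graded hg' hg⟩,
        fun z => (ProjectiveSpectrum.mem_basicOpen 𝒜 _ z.1).mp z.2,
        Or.inl (by push_cast; omega), fun z => ?_⟩
      have hz := (ProjectiveSpectrum.mem_basicOpen 𝒜 _ z.1).mp z.2
      let z' : U := ⟨z.1, hgU ((ProjectiveSpectrum.mem_basicOpen 𝒜 g z.1).mpr (right_not_mem 𝒜 hz))⟩
      have h1 : pt 𝒜 ℳ s z' = fr 𝒜 z.1 m g (right_not_mem 𝒜 hz) := hval z' _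
      have h2 : asLoc (pt 𝒜 𝒜 r z') = Localization.mk r' ⟨g', left_not_mem 𝒜 hz⟩ := hval' z' _
      change asLoc (pt 𝒜 𝒜 r z') • pt 𝒜 ℳ s z' = _
      rw [h1, h2, loc_smul_fr]⟩ : GrTilde.sect 𝒜 ℳ c (op U))

lemma pt_mulSect (hc : a + b = c) {U : (Proj 𝒜).Opens} (s : Γ(GrTilde.tilde 𝒜 ℳ a, U))
    (r : Γ(GrTilde.tilde 𝒜 𝒜 b, U)) (y : U) :
    pt 𝒜 ℳ (mulSect ℳ hc s r) y = asLoc (pt 𝒜 𝒜 r y) • pt 𝒜 ℳ s y := rfl

lemma pt_smul {n : ℤ} {U : (Proj 𝒜).Opens} (r : Γ(Proj 𝒜, U)) (s : Γ(GrTilde.tilde 𝒜 ℳ n, U))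
    (y : U) :
    pt 𝒜 ℳ (r • s) y = ((r : Twist.O (𝒜 := 𝒜) (op U)).1 y).val • pt 𝒜 ℳ s y := rfl

lemma pt_add {n : ℤ} {U : (Proj 𝒜).Opens} (s s' : Γ(GrTilde.tilde 𝒜 ℳ n, U)) (y : U) :
    pt 𝒜 ℳ (s + s') y = pt 𝒜 ℳ s y + pt 𝒜 ℳ s' y := rfl

/-- `mulSect`, bilinear. -/
def mulBil (hc : a + b = c) (U : (Proj 𝒜).Opens) :
    Γ(GrTilde.tilde 𝒜 ℳ a, U) →ₗ[Γ(Proj 𝒜, U)]
      Γ(GrTilde.tilde 𝒜 𝒜 b, U) →ₗ[Γ(Proj 𝒜, U)] Γ(GrTilde.tilde 𝒜 ℳ c, U) :=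
  LinearMap.mk₂ _ (mulSect ℳ hc)
    (fun s s' r => pt_ext 𝒜 ℳ fun y => by
      rw [pt_add, pt_mulSect, pt_mulSect, pt_mulSect, pt_add, smul_add])
    (fun k s r => pt_ext 𝒜 ℳ fun y => by
      rw [pt_smul, pt_mulSect, pt_mulSect, pt_smul, smul_comm])
    (fun s r r' => pt_ext 𝒜 ℳ fun y => by
      rw [pt_add, pt_mulSect, pt_mulSect, pt_mulSect, pt_add, ← add_smul])
    (fun k s r => pt_ext 𝒜 ℳ fun y => by
      rw [pt_smul, pt_mulSect, pt_mulSect, pt_smul, smul_smul]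
      rfl)

/-- `M(a)~ ⊗ O(b) ⟶ M(c)~`. -/
def tensorHom (hc : a + b = c) :
    CohB1.tensorMod (GrTilde.tilde 𝒜 ℳ a) (GrTilde.tilde 𝒜 𝒜 b) ⟶ GrTilde.tilde 𝒜 ℳ c :=
  TMul.lift (mulBil ℳ hc) fun _ _ _ => pt_ext 𝒜 ℳ fun _ => rfl

lemma tensorHom_tm (hc : a + b = c) {U : (Proj 𝒜).Opens} (s : Γ(GrTilde.tilde 𝒜 ℳ a, U))
    (r : Γ(GrTilde.tilde 𝒜 𝒜 b, U)) :
    (tensorHom ℳ hc).app U (TMul.tm s r) = mulSect ℳ hc s r :=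
  TMul.lift_tm (mulBil ℳ hc) (fun _ _ _ => pt_ext 𝒜 ℳ fun _ => rfl) s r

omit [SetLike.GradedSMul 𝒜 ℳ] [Module R M] in
lemma mk_mul_inv {x : ProjectiveSpectrum 𝒜} {p q : A} (hp : p ∉ x.asHomogeneousIdeal)
    (hq : q ∉ x.asHomogeneousIdeal) :
    (Localization.mk p ⟨q, hq⟩ : Twist.Loc 𝒜 x) * Localization.mk q ⟨p, hp⟩ = 1 := by
  rw [Localization.mk_mul, ← Localization.mk_one, Localization.mk_eq_mk_iff,
    Localization.r_iff_exists]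
  exact ⟨1, by simp only [Submonoid.coe_mul, OneMemClass.coe_one, one_mul, mul_one]; ring⟩

/-- Multiplication by a generator `p / q` of `O(b)` is bijective. -/
lemma mulSect_twistGen_bijective (hc : a + b = c) {i j : ℕ} {p q : A} (hp : p ∈ 𝒜 i) (hq : q ∈ 𝒜 j)
    (hij : (i : ℤ) = j + b) {U : (Proj 𝒜).Opens} (hU : U ≤ Proj.basicOpen 𝒜 p)
    (hU' : U ≤ Proj.basicOpen 𝒜 q) (V : (Proj 𝒜).Opens) (hV : V ≤ U) :
    Function.Bijective fun s : Γ(GrTilde.tilde 𝒜 ℳ a, V) =>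
      mulSect ℳ hc s (res (GrTilde.tilde 𝒜 𝒜 b) hV (twistGen 𝒜 hp hq hij hU')) := by
  have hyp : ∀ y : V, p ∉ y.1.asHomogeneousIdeal ∧ q ∉ y.1.asHomogeneousIdeal := fun y =>
    ⟨(ProjectiveSpectrum.mem_basicOpen 𝒜 p y.1).mp (hU (hV y.2)),
      (ProjectiveSpectrum.mem_basicOpen 𝒜 q y.1).mp (hU' (hV y.2))⟩
  have hgen : ∀ y : V, asLoc (pt 𝒜 𝒜 (res (GrTilde.tilde 𝒜 𝒜 b) hV (twistGen 𝒜 hp hq hij hU')) y) =
      Localization.mk p ⟨q, (hyp y).2⟩ := fun y => rfl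
  let e' : Γ(GrTilde.tilde 𝒜 𝒜 (-b), V) :=
    twistGen 𝒜 (N := -b) hq hp (show (j : ℤ) = (i : ℤ) + -b by omega) (hV.trans hU)
  have hgen' : ∀ y : V, asLoc (pt 𝒜 𝒜 e' y) = Localization.mk q ⟨p, (hyp y).1⟩ := fun y => rfl
  refine ⟨fun s s' h => pt_ext 𝒜 ℳ fun y => ?_,
    fun t => ⟨mulSect ℳ (show c + -b = a by omega) t e', pt_ext 𝒜 ℳ fun y => ?_⟩⟩
  · have h1 := congrArg (fun w => pt 𝒜 ℳ w y) h
    simp only [pt_mulSect, hgen] at h1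
    have h2 := congrArg (fun w => (Localization.mk q ⟨p, (hyp y).1⟩ : Twist.Loc 𝒜 y.1) • w) h1
    simp only [smul_smul] at h2
    rwa [mul_comm, mk_mul_inv (hyp y).1 (hyp y).2, one_smul, one_smul] at h2
  · rw [pt_mulSect, pt_mulSect, hgen, hgen', smul_smul, mk_mul_inv (hyp y).1 (hyp y).2, one_smul]

variable (hcov : ∀ x : ProjectiveSpectrum 𝒜, ∃ f ∈ 𝒜 1, f ∉ x.asHomogeneousIdeal)

omit [SetLike.GradedSMul 𝒜 ℳ] [Module R M] in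
include hcov in
lemma exists_chart_gen (x : (Proj 𝒜)) (n : ℤ) :
    ∃ (i j : ℕ) (p q : A) (_ : p ∈ 𝒜 i) (_ : q ∈ 𝒜 j) (_ : (i : ℤ) = j + n) (U : (Proj 𝒜).Opens),
      U ≤ Proj.basicOpen 𝒜 p ∧ U ≤ Proj.basicOpen 𝒜 q ∧ x ∈ U := by
  obtain ⟨f, hf, hfx⟩ := hcov x
  have hle : ∀ k : ℕ, Proj.basicOpen 𝒜 f ≤ Proj.basicOpen 𝒜 (f ^ k) := fun k y hy =>
    (ProjectiveSpectrum.mem_basicOpen 𝒜 _ y).mpr
      (not_mem_pow 𝒜 ((ProjectiveSpectrum.mem_basicOpen 𝒜 f y).mp hy) k)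
  exact ⟨n.toNat • 1, (-n).toNat • 1, f ^ n.toNat, f ^ (-n).toNat, SetLike.pow_mem_graded _ hf,
    SetLike.pow_mem_graded _ hf, by simp only [smul_eq_mul, mul_one]; omega,
    Proj.basicOpen 𝒜 f, hle _, hle _, (ProjectiveSpectrum.mem_basicOpen 𝒜 f x).mpr hfx⟩

omit [SetLike.GradedSMul 𝒜 ℳ] [Module R M] in
include hcov in
lemma exists_gen (x : (Proj 𝒜)) (n : ℤ) :
    ∃ (U : (Proj 𝒜).Opens) (e : Γ(GrTilde.tilde 𝒜 𝒜 n, U)), x ∈ U ∧ TMul.IsGen e := by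
  obtain ⟨i, j, p, q, hp, hq, hij, U, hU, hU', hx⟩ := exists_chart_gen hcov x n
  exact ⟨U, twistGen 𝒜 hp hq hij hU', hx, twistGen_bijective 𝒜 hp hq hij hU hU'⟩

omit [SetLike.GradedSMul 𝒜 ℳ] [Module R M] in
include hcov in
theorem isInvertible_twist (n : ℤ) : PicF.IsInvertible (GrTilde.tilde 𝒜 𝒜 n) :=
  InvGen.isInvertible fun x =>
    let ⟨U, e, hx, he⟩ := exists_gen hcov x n
    ⟨U, e, hx, he⟩

include hcov in
/-- `M(a)~ ⊗ O(b) ≅ M(c)~`. -/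
theorem isIso_tensorHom (hc : a + b = c) : IsIso (tensorHom (𝒜 := 𝒜) ℳ hc) := by
  have key : ∀ (x : (Proj 𝒜)) (W : (Proj 𝒜).Opens), x ∈ W → ∃ V : (Proj 𝒜).Opens,
      V ≤ W ∧ x ∈ V ∧ Function.Bijective ((tensorHom (𝒜 := 𝒜) ℳ hc).app V) := fun x W hxW => by
    obtain ⟨i, j, p, q, hp, hq, hij, U, hU, hU', hx⟩ := exists_chart_gen hcov x b
    refine ⟨W ⊓ U, inf_le_left, ⟨hxW, hx⟩, ?_⟩
    have h1 := TMul.tm_bijective (M := GrTilde.tilde 𝒜 ℳ a)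
      (twistGen_bijective 𝒜 hp hq hij hU hU' : TMul.IsGen (twistGen 𝒜 hp hq hij hU')) (W ⊓ U) inf_le_right
    have h2 := mulSect_twistGen_bijective ℳ hc hp hq hij hU hU' (W ⊓ U) inf_le_right
    refine (Function.Bijective.of_comp_iff _ h1).mp ?_
    refine Eq.mpr (congrArg _ (funext fun s => ?_)) h2
    exact tensorHom_tm ℳ hc s _
  refine isIso_of_locally _ (fun W => (injective_iff_map_eq_zero _).mpr fun s hs =>
    Groth.Agent.QC.section_eq_of_locally fun x hx => ?_) fun W t x hx => ?_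
  · obtain ⟨V, hV, hxV, hbij⟩ := key x W hx
    refine ⟨V, hV, hxV, hbij.1 ?_⟩
    rw [← app_res, hs, map_zero, map_zero, map_zero]
  · obtain ⟨V, hV, hxV, hbij⟩ := key x W hx
    exact ⟨V, hV, hxV, hbij.2 _⟩

include hcov in
theorem nonempty_tensor_iso (hc : a + b = c) :
    Nonempty (CohB1.tensorMod (GrTilde.tilde 𝒜 ℳ a) (GrTilde.tilde 𝒜 𝒜 b) ≅
      GrTilde.tilde 𝒜 ℳ c) :=
  haveI := isIso_tensorHom ℳ hcov hc
  ⟨asIso (tensorHom ℳ hc)⟩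

omit [SetLike.GradedSMul 𝒜 ℳ] [Module R M] in
lemma nonempty_twist_zero_iso :
    Nonempty (GrTilde.tilde 𝒜 𝒜 (0 : ℤ) ≅ Coh.structureModule (Proj 𝒜)) := by
  have h1 : (⊤ : (Proj 𝒜).Opens) ≤ Proj.basicOpen 𝒜 (1 : A) := (Proj.basicOpen_one 𝒜).ge
  obtain ⟨i⟩ := InvGen.nonempty_iso (𝟙 (Proj 𝒜)) (GrTilde.tilde 𝒜 𝒜 (0 : ℤ)) le_top
    (twistGen 𝒜 (SetLike.GradedOne.one_mem (A := 𝒜)) (SetLike.GradedOne.one_mem (A := 𝒜))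
      (add_zero _).symm h1)
    (twistGen_bijective 𝒜 _ _ _ h1 h1)
  exact ⟨((Scheme.Modules.restrictFunctorId (X := Proj 𝒜)).app _).symm ≪≫ i⟩

omit [SetLike.GradedSMul 𝒜 ℳ] [Module R M] in
include hcov in
theorem nonempty_iso_tensorPow (n : ℕ) :
    Nonempty (GrTilde.tilde 𝒜 𝒜 (n : ℤ) ≅ CohB1.tensorPow (GrTilde.tilde 𝒜 𝒜 (1 : ℤ)) n) := by
  induction n with
  | zero => exact nonempty_twist_zero_iso
  | succ n ih =>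
    obtain ⟨e⟩ := ih
    obtain ⟨i⟩ := nonempty_tensor_iso (a := (n : ℤ)) (b := 1) (c := ((n + 1 : ℕ) : ℤ)) 𝒜 hcov
      (by push_cast; ring)
    exact ⟨i.symm ≪≫ PicGrp.tensorModIso e (Iso.refl _)⟩

end GrT
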