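import Groth.Agent.GrT.Ample
import Groth.Agent.TMul.Assoc
import Groth.Agent.WeakAssLib.Basic
import Groth.Prelude.Def_ProjUP

/-!
`O(m)` when `Proj` is covered by the non-vanishing loci of degree `m` elements: tensor products, ampleness,
generation by global sections.
-/

set_option autoImplicit false
set_option backward.isDefEq.respectTransparency false

universe u

open CategoryTheory CategoryTheory.Limits DirectSum TopologicalSpace AlgebraicGeometry Opposite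
open Groth.Agent.QC (res resO res_res res_smul resO_resO app_res)
open Groth.Agent.WeakAssLib (mgerm mgerm_smul mgerm_res)

noncomputable section

namespace GrT

variable {R A : Type u} [CommRing R] [CommRing A] [Algebra R A] {𝒜 : ℕ → Submodule R A}
  [GradedAlgebra 𝒜]
variable {M : Type u} [AddCommGroup M] [Module R M] [Module A M] (ℳ : ℕ → Submodule R M)
  [SetLike.GradedSMul 𝒜 ℳ]

variable (𝒜) in
/-- Every point has a neighbourhood with a generating fraction of degree `b`. -/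
def HasFracGens (b : ℤ) : Prop :=
  ∀ x : (Proj 𝒜), ∃ (i j : ℕ) (p q : A) (_ : p ∈ 𝒜 i) (_ : q ∈ 𝒜 j) (_ : (i : ℤ) = j + b)
    (U : (Proj 𝒜).Opens), U ≤ Proj.basicOpen 𝒜 p ∧ U ≤ Proj.basicOpen 𝒜 q ∧ x ∈ U

omit [SetLike.GradedSMul 𝒜 ℳ] [Module R M] in
lemma hasFracGens_of_cover {l : ℕ} (hcov : ∀ x : ProjectiveSpectrum 𝒜, ∃ f ∈ 𝒜 l, f ∉ x.asHomogeneousIdeal)
    (a : ℤ) : HasFracGens 𝒜 (a * l) := by
  intro x
  obtain ⟨f, hf, hfx⟩ := hcov x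
  have hle : ∀ k : ℕ, Proj.basicOpen 𝒜 f ≤ Proj.basicOpen 𝒜 (f ^ k) := fun k y hy =>
    (ProjectiveSpectrum.mem_basicOpen 𝒜 _ y).mpr
      (not_mem_pow 𝒜 ((ProjectiveSpectrum.mem_basicOpen 𝒜 f y).mp hy) k)
  refine ⟨a.toNat • l, (-a).toNat • l, f ^ a.toNat, f ^ (-a).toNat, SetLike.pow_mem_graded _ hf,
    SetLike.pow_mem_graded _ hf, ?_,
    Proj.basicOpen 𝒜 f, hle _, hle _, (ProjectiveSpectrum.mem_basicOpen 𝒜 f x).mpr hfx⟩
  simp only [smul_eq_mul, Nat.cast_mul]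
  rw [← add_mul]
  exact congrArg (· * (l : ℤ)) (by omega)

variable {a b c : ℤ}

theorem isIso_tensorHom_of_gens (hb : HasFracGens 𝒜 b) (hc : a + b = c) :
    IsIso (tensorHom (𝒜 := 𝒜) ℳ hc) := by
  have key : ∀ (x : (Proj 𝒜)) (W : (Proj 𝒜).Opens), x ∈ W → ∃ V : (Proj 𝒜).Opens,
      V ≤ W ∧ x ∈ V ∧ Function.Bijective ((tensorHom (𝒜 := 𝒜) ℳ hc).app V) := fun x W hxW => by
    obtain ⟨i, j, p, q, hp, hq, hij, U, hU, hU', hx⟩ := hb x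
    refine ⟨W ⊓ U, inf_le_left, ⟨hxW, hx⟩, ?_⟩
    have h1 := TMul.tm_bijective (M := GrTilde.tilde 𝒜 ℳ a)
      (twistGen_bijective 𝒜 hp hq hij hU hU' : TMul.IsGen (twistGen 𝒜 hp hq hij hU')) (W ⊓ U) inf_le_right
    have h2 := mulSect_twistGen_bijective ℳ hc hp hq hij hU hU' (W ⊓ U) inf_le_right
    refine (Function.Bijective.of_comp_iff _ h1).mp ?_
    refine Eq.mpr (congrArg _ (funext fun s => ?_)) h2
    exact tensorHom_tm ℳ hc s _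
  refine isIso_of_locally _ (fun W => (injective_iff_map_eq_zero _).mpr fun s hs =>
    Groth.Agent.QC.section_eq_of_locally fun x hx => ?_) fun W t x hx => ?_
  · obtain ⟨V, hV, hxV, hbij⟩ := key x W hx
    refine ⟨V, hV, hxV, hbij.1 ?_⟩
    rw [← app_res, hs, map_zero, map_zero, map_zero]
  · obtain ⟨V, hV, hxV, hbij⟩ := key x W hx
    exact ⟨V, hV, hxV, hbij.2 _⟩

variable (𝒜) in
theorem nonempty_twist_tensor_iso (hb : HasFracGens 𝒜 b) (hc : a + b = c) :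
    Nonempty (CohB1.tensorMod (Twist.twist 𝒜 b) (Twist.twist 𝒜 a) ≅ Twist.twist 𝒜 c) := by
  haveI := isIso_tensorHom_of_gens (𝒜 := 𝒜) 𝒜 hb hc
  exact ⟨TMul.commIso _ _ ≪≫ asIso (tensorHom (𝒜 := 𝒜) 𝒜 hc)⟩

omit [SetLike.GradedSMul 𝒜 ℳ] [Module R M] in
lemma nonempty_tensorPow_one (n : ℤ) :
    Nonempty (Twist.twist 𝒜 n ≅ CohB1.tensorPow (Twist.twist 𝒜 n) 1) :=
  ⟨(TMul.leftUnitIso (Twist.twist 𝒜 n)).symm⟩

/-- The section `f` of `O(m)`. -/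
def degSection {m : ℕ} {f : A} (hf : f ∈ 𝒜 m) : Γ(GrTilde.tilde 𝒜 𝒜 (m : ℤ), ⊤) :=
  fracSect 𝒜 𝒜 (m : ℤ) hf (SetLike.GradedOne.one_mem (A := 𝒜)) (by simp) ⊤
    fun y h => y.1.isPrime.ne_top ((Ideal.eq_top_iff_one _).mpr h)

omit [SetLike.GradedSMul 𝒜 ℳ] [Module R M] in
lemma genLocus_degSection {m : ℕ} (hcov : ∀ x : ProjectiveSpectrum 𝒜, ∃ g ∈ 𝒜 m, g ∉ x.asHomogeneousIdeal)
    {f : A} (hf : f ∈ 𝒜 m) :
    CohB1.genLocus _ (homOfSection _ (degSection (𝒜 := 𝒜) hf)) = Proj.basicOpen 𝒜 f := by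
  have hone : ∀ V : (Proj 𝒜).Opens, V ≤ Proj.basicOpen 𝒜 (1 : A) :=
    fun V => le_top.trans (Proj.basicOpen_one 𝒜).ge
  have hval : ∀ W : (Proj 𝒜).Opens, TMul.val (homOfSection _ (degSection (𝒜 := 𝒜) hf)) W =
      res _ le_top (degSection (𝒜 := 𝒜) hf) := fun W =>
    (homOfSection_app _ _ W 1).trans (one_smul _ _)
  apply le_antisymm
  · intro x hx
    obtain ⟨U, hxU, hU⟩ := (TMul.mem_genLocus_iff _).mp hx
    obtain ⟨g, hg, hgx⟩ := hcov x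
    refine (ProjectiveSpectrum.mem_basicOpen 𝒜 f x).mpr fun hfx => ?_
    let W := U ⊓ Proj.basicOpen 𝒜 g
    obtain ⟨c, hc⟩ := (hU W inf_le_left).2 (res _ le_top (degSection (𝒜 := 𝒜) hg))
    let y : W := ⟨x, hxU, (ProjectiveSpectrum.mem_basicOpen 𝒜 g x).mpr hgx⟩
    rw [hval, res_res] at hc
    have h1 := congrArg (fun w => pt 𝒜 𝒜 w y) hc
    simp only [pt_smul] at h1
    obtain ⟨⟨k, ⟨a, ha⟩, ⟨t, ht⟩, htx⟩, hct⟩ :=
      HomogeneousLocalization.mk_surjective ((c : Twist.O (𝒜 := 𝒜) (op W)).1 y)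
    rw [← hct, HomogeneousLocalization.val_mk] at h1
    have h2 : (Localization.mk a ⟨t, htx⟩ : Twist.Loc 𝒜 x) •
        fr 𝒜 x f 1 (fun h => x.isPrime.ne_top ((Ideal.eq_top_iff_one _).mpr h)) =
        fr 𝒜 x g 1 (fun h => x.isPrime.ne_top ((Ideal.eq_top_iff_one _).mpr h)) := h1
    rw [loc_smul_fr, fr_eq_iff] at h2
    obtain ⟨u, hu, h3⟩ := h2
    simp only [mul_one, one_smul, smul_eq_mul, one_mul, mul_sub, sub_eq_zero] at h3
    exact not_mem_mul 𝒜 hu (not_mem_mul 𝒜 htx hgx)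
      (h3 ▸ Ideal.mul_mem_left _ _ (Ideal.mul_mem_left _ _ hfx))
  · refine TMul.le_genLocus _ ?_
    rw [hval]
    exact twistGen_bijective 𝒜 hf (SetLike.GradedOne.one_mem (A := 𝒜)) (by simp) le_rfl (hone _)

omit [SetLike.GradedSMul 𝒜 ℳ] [Module R M] in
theorem isInvertible_twist_of_gens {n : ℤ} (hn : HasFracGens 𝒜 n) : PicF.IsInvertible (Twist.twist 𝒜 n) := by
  rw [twist_eq]
  refine InvGen.isInvertible fun x => ?_
  obtain ⟨i, j, p, q, hp, hq, hij, U, hU, hU', hx⟩ := hn x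
  exact ⟨U, twistGen 𝒜 hp hq hij hU', hx, twistGen_bijective 𝒜 hp hq hij hU hU'⟩

omit [SetLike.GradedSMul 𝒜 ℳ] [Module R M] in
theorem isAmple_twist_of_cover [CompactSpace (Proj 𝒜)] {m : ℕ} (hm : 0 < m)
    (hcov : ∀ x : ProjectiveSpectrum 𝒜, ∃ g ∈ 𝒜 m, g ∉ x.asHomogeneousIdeal) :
    CohB1.IsAmple (Twist.twist 𝒜 (m : ℤ)) := by
  have hg : HasFracGens 𝒜 (m : ℤ) := by simpa using hasFracGens_of_cover hcov 1
  refine ⟨isInvertible_twist_of_gens hg, inferInstance, fun x => ?_⟩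
  obtain ⟨f, hf, hfx⟩ := hcov x
  obtain ⟨e⟩ := nonempty_tensorPow_one (𝒜 := 𝒜) (m : ℤ)
  refine ⟨0, homOfSection _ (degSection (𝒜 := 𝒜) hf) ≫ e.hom, ?_, ?_⟩
  · rw [TMul.genLocus_comp]
    exact (genLocus_degSection hcov hf).ge ((ProjectiveSpectrum.mem_basicOpen 𝒜 f x).mpr hfx)
  · rw [TMul.genLocus_comp]
    exact (congrArg IsAffineOpen (genLocus_degSection hcov hf)).mpr (ProjLib.isAffineOpen_basicOpen 𝒜 hf hm)

omit [SetLike.GradedSMul 𝒜 ℳ] [Module R M] in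
/-- The products `b * c` with `c` of the same degree as the denominators span the stalks of `O(n)`. -/
theorem generatedBy_twist (n : ℕ)
    (H : ∀ (x : ProjectiveSpectrum 𝒜) (i j : ℕ) (a g : A), a ∈ 𝒜 i → g ∈ 𝒜 j → i = j + n →
      g ∉ x.asHomogeneousIdeal →
      ∃ (e : ℕ) (h : A), h * g ∈ 𝒜 e ∧ h ∉ x.asHomogeneousIdeal ∧ h * a ∈ 𝒜 n * 𝒜 e) :
    ProjUP.GeneratedBy (Twist.twist 𝒜 (n : ℤ))
      (fun b : 𝒜 n => (Twist.globalOf 𝒜 b : ProjUP.Γm (Twist.twist 𝒜 (n : ℤ)))) := by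
  classical
  intro x
  refine eq_top_iff.mpr fun z _ => ?_
  obtain ⟨U, hxU, t, rfl⟩ := TopCat.Presheaf.exists_germ_eq (C := Ab.{u}) (Twist.twist 𝒜 (n : ℤ)).presheaf z
  obtain ⟨W, hxW, ι, i, j, ⟨a, ha⟩, ⟨g, hg⟩, hgW, hcase, hval⟩ :=
    (t : GrTilde.sect 𝒜 𝒜 (n : ℤ) (op U)).2 ⟨x, hxU⟩
  have hWU : W ≤ U := ι.le
  rcases hcase with hij | ha0
  swap
  · -- the zero section
    have h0 : res (Twist.twist 𝒜 (n : ℤ)) hWU t = 0 := pt_ext 𝒜 𝒜 fun y => by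
      refine (hval y).trans ?_
      change fr 𝒜 y.1 a g _ = 0
      obtain rfl : a = 0 := ha0
      exact fr_zero 𝒜 _ _
    change mgerm (Twist.twist 𝒜 (n : ℤ)) hxU t ∈ _
    rw [← mgerm_res _ hWU hxW t, h0, map_zero]
    exact Submodule.zero_mem _
  obtain ⟨e, h, hhg, hhx, hha⟩ := H x i j a g ha hg (by replace hij : (i : ℤ) = (j : ℤ) + (n : ℤ) := hij; omega) (hgW ⟨x, hxW⟩)
  let W' : (Proj 𝒜).Opens := W ⊓ Proj.basicOpen 𝒜 h
  have hxW' : x ∈ W' := ⟨hxW, (ProjectiveSpectrum.mem_basicOpen 𝒜 h x).mpr hhx⟩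
  have hnin : ∀ y : W', h * g ∉ y.1.asHomogeneousIdeal := fun y =>
    not_mem_mul 𝒜 ((ProjectiveSpectrum.mem_basicOpen 𝒜 h y.1).mp y.2.2) (hgW ⟨y.1, y.2.1⟩)
  change mgerm (Twist.twist 𝒜 (n : ℤ)) hxU t ∈ _
  rw [← mgerm_res _ ((inf_le_left : W' ≤ W).trans hWU) hxW' t]
  have key : ∀ u ∈ 𝒜 n * 𝒜 e, ∀ (s : Γ(Twist.twist 𝒜 (n : ℤ), W')),
      (∀ y : W', pt 𝒜 𝒜 s y = fr 𝒜 y.1 u (h * g) (hnin y)) →
      mgerm (Twist.twist 𝒜 (n : ℤ)) hxW' s ∈ Submodule.span ((Proj 𝒜).presheaf.stalk x)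
        (Set.range fun b : 𝒜 n => mgerm (Twist.twist 𝒜 (n : ℤ)) (U := ⊤) (x := x) trivial
          (Twist.globalOf 𝒜 b)) := by
    intro u hu
    have hune : u ∈ 𝒜 (n + e) := (Submodule.mul_le.mpr fun _ hp _ hq => SetLike.mul_mem_graded hp hq) hu
    induction hu using Submodule.mul_induction_on' with
    | mem_mul_mem b hb c hc =>
      intro s hs
      let cs : Γ(Proj 𝒜, W') := (⟨fun y => HomogeneousLocalization.mk ⟨e, ⟨c, hc⟩, ⟨h * g, hhg⟩, hnin y⟩,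
        fun y => ⟨W', y.2, 𝟙 _, e, ⟨c, hc⟩, ⟨h * g, hhg⟩, hnin, fun _ => rfl⟩⟩ : Twist.O (𝒜 := 𝒜) (op W'))
      have hs' : s = cs • res (Twist.twist 𝒜 (n : ℤ)) (le_top : W' ≤ ⊤) (Twist.globalOf 𝒜 ⟨b, hb⟩) := by
        refine pt_ext 𝒜 𝒜 fun y => ?_
        rw [hs y]
        refine Eq.symm ((pt_smul (𝒜 := 𝒜) 𝒜 cs _ y).trans ?_)
        change (Localization.mk c ⟨h * g, hnin y⟩ : Twist.Loc 𝒜 y.1) •
          fr 𝒜 y.1 b 1 (fun hh => y.1.isPrime.ne_top ((Ideal.eq_top_iff_one _).mpr hh)) = _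
        rw [loc_smul_fr]
        exact fr_congr 𝒜 y.1 _ _ (by simp only [smul_eq_mul]; ring)
      rw [hs', mgerm_smul, mgerm_res]
      exact Submodule.smul_mem _ _ (Submodule.subset_span ⟨⟨b, hb⟩, rfl⟩)
    | add u₁ h₁ u₂ h₂ ih₁ ih₂ =>
      intro s hs
      have hd : ∀ v ∈ 𝒜 n * 𝒜 e, v ∈ 𝒜 (n + e) :=
        fun v hv => (Submodule.mul_le.mpr fun _ hp _ hq => SetLike.mul_mem_graded hp hq) hv
      let s₁ : Γ(Twist.twist 𝒜 (n : ℤ), W') := fracSect 𝒜 𝒜 (n : ℤ) (hd u₁ h₁) hhg (by push_cast; ring) W' hnin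
      let s₂ : Γ(Twist.twist 𝒜 (n : ℤ), W') := fracSect 𝒜 𝒜 (n : ℤ) (hd u₂ h₂) hhg (by push_cast; ring) W' hnin
      have : s = s₁ + s₂ := pt_ext 𝒜 𝒜 fun y => by
        rw [hs y, pt_add]
        change _ = fr 𝒜 y.1 u₁ _ _ + fr 𝒜 y.1 u₂ _ _
        exact ((fr_add 𝒜 y.1 (a := u₁) (b := u₂) (hnin y) (hnin y)).trans
          (fr_congr 𝒜 y.1 _ _ (by simp only [smul_eq_mul]; ring))).symm
      rw [this, map_add]
      exact Submodule.add_mem _ (ih₁ (hd u₁ h₁) _ fun y => rfl) (ih₂ (hd u₂ h₂) _ fun y => rfl)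
  refine key _ hha _ fun y => ?_
  refine (hval ⟨y.1, y.2.1⟩).trans ?_
  exact fr_congr 𝒜 y.1 _ _ (by simp only [smul_eq_mul]; ring)

end GrT
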