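import Groth.Agent.GrT.Dehom
import Groth.Agent.QC.Sections
import Mathlib.Algebra.Module.GradedModule

/-!
The graded module `Γ_*(F)` of a sheaf on `Proj`, built from charts of degree one.
-/

set_option autoImplicit false
set_option backward.isDefEq.respectTransparency false

universe u

open CategoryTheory DirectSum TopologicalSpace AlgebraicGeometry Opposite
open Groth.Agent.QC (res resO res_res res_smul resO_resO res_self resO_self)

noncomputable section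

namespace GrT

variable {R A : Type u} [CommRing R] [CommRing A] [Algebra R A] (𝒜 : ℕ → Submodule R A)
  [GradedAlgebra 𝒜]
variable {ι : Type u} (v : ι → A) (hv : ∀ i, v i ∈ 𝒜 1) (F : (Proj 𝒜).Modules)

/-- Charts: a section over each `D₊(v i)`. -/
def Amb (_ : ∀ i, v i ∈ 𝒜 1) : Type u := ∀ i, Γ(F, Proj.basicOpen 𝒜 (v i))

instance : AddCommGroup (Amb 𝒜 v F hv) :=
  inferInstanceAs (AddCommGroup (∀ i, Γ(F, Proj.basicOpen 𝒜 (v i))))

/-- All dehomogenisations. -/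
def dehAll : A →+* ∀ i, Γ(Proj 𝒜, Proj.basicOpen 𝒜 (v i)) :=
  Pi.ringHom fun i => deh 𝒜 (hv i)

instance : Module A (Amb 𝒜 v F hv) :=
  letI : Module (∀ i, Γ(Proj 𝒜, Proj.basicOpen 𝒜 (v i))) (Amb 𝒜 v F hv) :=
    inferInstanceAs (Module (∀ i, Γ(Proj 𝒜, Proj.basicOpen 𝒜 (v i)))
      (∀ i, Γ(F, Proj.basicOpen 𝒜 (v i))))
  Module.compHom _ (dehAll 𝒜 v hv)

instance : Module R (Amb 𝒜 v F hv) := Module.compHom _ (algebraMap R A)

instance : IsScalarTower R A (Amb 𝒜 v F hv) :=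
  IsScalarTower.of_algebraMap_smul fun _ _ => rfl

variable {𝒜 v hv F} in
lemma amb_smul (a : A) (t : Amb 𝒜 v F hv) (i : ι) : (a • t) i = deh 𝒜 (hv i) a • t i := rfl

variable {𝒜 v hv F} in
lemma amb_add (t t' : Amb 𝒜 v F hv) (i : ι) : (t + t') i = t i + t' i := rfl

/-- Compatibility in degree `n`. -/
def Compat (n : ℕ) (t : Amb 𝒜 v F hv) : Prop :=
  ∀ (i j : ι) (V : (Proj 𝒜).Opens) (h1 : V ≤ Proj.basicOpen 𝒜 (v i))
    (h2 : V ≤ Proj.basicOpen 𝒜 (v j)),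
    res F h1 (t i) = resO (Proj 𝒜) h1 (deh 𝒜 (hv i) (v j ^ n)) • res F h2 (t j)

variable {𝒜 v hv F} in
lemma Compat.smul {d n : ℕ} {a : A} (ha : a ∈ 𝒜 d) {t : Amb 𝒜 v F hv} (ht : Compat 𝒜 v hv F n t) :
    Compat 𝒜 v hv F (d + n) (a • t) := by
  intro i j V h1 h2
  rw [amb_smul, amb_smul, res_smul, res_smul, ht i j V h1 h2,
    deh_cross 𝒜 (hv i) (hv j) ha h1 h2, smul_smul, smul_smul, pow_add, map_mul, map_mul]
  congr 1
  ring

/-- The degree `n` part. -/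
def G (n : ℕ) : Submodule R (Amb 𝒜 v F hv) where
  carrier := {t | Compat 𝒜 v hv F n t}
  add_mem' {s t} hs ht i j V h1 h2 := by
    rw [amb_add, amb_add, map_add, map_add, hs i j V h1 h2, ht i j V h1 h2, smul_add]
  zero_mem' i j V h1 h2 := by
    change res F h1 0 = _ • res F h2 0
    rw [map_zero, map_zero, smul_zero]
  smul_mem' r t ht := by
    have h := ht.smul (a := algebraMap R A r) (SetLike.algebraMap_mem_graded 𝒜 r)
    rwa [zero_add] at h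

instance : SetLike.GradedSMul 𝒜 (G 𝒜 v hv F) :=
  ⟨fun {d n a t} ha ht => Compat.smul ha ht⟩

/-- `Γ_*(F)`. -/
def Gam : Type u := ⨁ n, G 𝒜 v hv F n

instance : AddCommGroup (Gam 𝒜 v hv F) := inferInstanceAs (AddCommGroup (⨁ n, G 𝒜 v hv F n))

instance : Module R (Gam 𝒜 v hv F) := inferInstanceAs (Module R (⨁ n, G 𝒜 v hv F n))

instance : Module A (Gam 𝒜 v hv F) := GradedModule.isModule 𝒜 (G 𝒜 v hv F)

/-- Homogeneous elements. -/
def ofG (n : ℕ) : G 𝒜 v hv F n →ₗ[R] Gam 𝒜 v hv F := DirectSum.lof R ℕ (fun n => G 𝒜 v hv F n) n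

variable {𝒜 v hv F}

lemma smul_ofG {d n : ℕ} {a : A} (ha : a ∈ 𝒜 d) (t : G 𝒜 v hv F n) :
    a • ofG 𝒜 v hv F n t =
      ofG 𝒜 v hv F (d + n) ⟨a • (t : Amb 𝒜 v F hv), Compat.smul ha t.2⟩ := by
  have h : (decompose 𝒜 a • DirectSum.of (fun n => G 𝒜 v hv F n) n t : ⨁ n, G 𝒜 v hv F n) =
      DirectSum.of (fun n => G 𝒜 v hv F n) (d + n)
        ⟨a • (t : Amb 𝒜 v F hv), Compat.smul ha t.2⟩ := by
    rw [decompose_of_mem 𝒜 ha, DirectSum.Gmodule.of_smul_of]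
    rfl
  exact h

lemma ofG_congr {n m : ℕ} (h : n = m) (t : G 𝒜 v hv F n) (t' : G 𝒜 v hv F m)
    (e : (t : Amb 𝒜 v F hv) = t') : ofG 𝒜 v hv F n t = ofG 𝒜 v hv F m t' := by
  subst h
  rw [Subtype.ext e]

lemma ofG_eq_zero_iff {n : ℕ} (t : G 𝒜 v hv F n) :
    ofG 𝒜 v hv F n t = 0 ↔ (t : Amb 𝒜 v F hv) = 0 := by
  refine ⟨fun h => ?_, fun h => by rw [show t = 0 from Subtype.ext h, map_zero]⟩
  have := congrArg (fun w : ⨁ n, G 𝒜 v hv F n => w n)
    (show (DirectSum.of (fun n => G 𝒜 v hv F n) n t : ⨁ n, G 𝒜 v hv F n) = 0 from h)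
  simp only [DirectSum.of_eq_same, DirectSum.zero_apply] at this
  exact congrArg Subtype.val this

@[elab_as_elim]
lemma gam_induction {P : Gam 𝒜 v hv F → Prop} (x : Gam 𝒜 v hv F) (h0 : P 0)
    (hof : ∀ n t, P (ofG 𝒜 v hv F n t)) (hadd : ∀ a b, P a → P b → P (a + b)) : P x :=
  DirectSum.induction_on (motive := P) x h0 hof hadd

instance : IsScalarTower R A (Gam 𝒜 v hv F) := by
  refine IsScalarTower.of_algebraMap_smul fun r x => ?_
  induction x using gam_induction with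
  | h0 => rw [smul_zero, smul_zero]
  | hof n t =>
    rw [smul_ofG (SetLike.algebraMap_mem_graded 𝒜 r) t, ← map_smul]
    exact ofG_congr (zero_add n) _ _ rfl
  | hadd a b ha hb => rw [smul_add, smul_add, ha, hb]

variable (𝒜 v hv F)

/-- The grading. -/
def piece (n : ℕ) : Submodule R (Gam 𝒜 v hv F) := LinearMap.range (ofG 𝒜 v hv F n)

lemma ofG_mem_piece (n : ℕ) (t : G 𝒜 v hv F n) : ofG 𝒜 v hv F n t ∈ piece 𝒜 v hv F n := ⟨t, rfl⟩

instance : SetLike.GradedSMul 𝒜 (piece 𝒜 v hv F) := ⟨fun {d n a m} ha hm => by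
  obtain ⟨t, rfl⟩ := hm
  rw [smul_ofG ha t]
  exact ofG_mem_piece 𝒜 v hv F _ _⟩

/-- `ofG` into its piece. -/
def pieceMk (n : ℕ) : G 𝒜 v hv F n →ₗ[R] piece 𝒜 v hv F n :=
  (ofG 𝒜 v hv F n).codRestrict _ fun t => ofG_mem_piece 𝒜 v hv F n t

/-- The decomposition map. -/
def dec : Gam 𝒜 v hv F →ₗ[R] ⨁ n, piece 𝒜 v hv F n :=
  DirectSum.toModule R ℕ _ fun n =>
    (DirectSum.lof R ℕ (fun n => piece 𝒜 v hv F n) n).comp (pieceMk 𝒜 v hv F n)

lemma dec_ofG (n : ℕ) (t : G 𝒜 v hv F n) :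
    dec 𝒜 v hv F (ofG 𝒜 v hv F n t) =
      DirectSum.lof R ℕ (fun n => piece 𝒜 v hv F n) n (pieceMk 𝒜 v hv F n t) := by
  have h := DirectSum.toModule_lof R (M := fun n => G 𝒜 v hv F n) (φ := fun n =>
    (DirectSum.lof R ℕ (fun n => piece 𝒜 v hv F n) n).comp (pieceMk 𝒜 v hv F n)) n t
  rw [LinearMap.comp_apply] at h
  exact h

instance : DirectSum.Decomposition (piece 𝒜 v hv F) :=
  DirectSum.Decomposition.ofLinearMap _ (dec 𝒜 v hv F)
    (LinearMap.ext fun x => by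
      induction x using gam_induction with
      | h0 => simp
      | hof n t =>
        rw [LinearMap.comp_apply, dec_ofG, DirectSum.lof_eq_of]
        exact DirectSum.coeLinearMap_of _ n _
      | hadd a b ha hb => rw [map_add, map_add, ha, hb])
    (DirectSum.linearMap_ext R fun n => LinearMap.ext fun x => by
      obtain ⟨m, s, rfl⟩ := x
      simp only [LinearMap.comp_apply, DirectSum.lof_eq_of, LinearMap.id_apply,
        DirectSum.coeLinearMap_of]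
      rw [dec_ofG, DirectSum.lof_eq_of]; rfl)

variable {𝒜 v hv F}

/-- A homogeneous element vanishing on a chart near a point is killed off that point. -/
lemma exists_smul_eq_zero [Finite ι] (hF : Coh.IsQCoh F) {n : ℕ} (t : G 𝒜 v hv F n) (i : ι)
    {V : (Proj 𝒜).Opens} (hV : V ≤ Proj.basicOpen 𝒜 (v i)) (h0 : res F hV ((t : Amb 𝒜 v F hv) i) = 0)
    {y : (Proj 𝒜)} (hy : y ∈ V) :
    ∃ (d : ℕ) (c : A), c ∈ 𝒜 d ∧ c ∉ y.asHomogeneousIdeal ∧ c • ofG 𝒜 v hv F n t = 0 := by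
  classical
  haveI := Fintype.ofFinite ι
  haveI : F.IsQuasicoherent := hF
  have haff : ∀ j, IsAffineOpen (Proj.basicOpen 𝒜 (v j)) := fun j =>
    ProjLib.isAffineOpen_basicOpen 𝒜 (hv j) one_pos
  obtain ⟨h, hhV, hyh⟩ := (haff i).exists_basicOpen_le ⟨y, hy⟩ (hV hy)
  obtain ⟨N, hN⟩ := (Groth.Agent.QC.isLoc_of_isQCoh (haff i)).exists_pow_smul_eq_zero h _
    (show res F ((Proj 𝒜).basicOpen_le h) ((t : Amb 𝒜 v F hv) i) = 0 by
      rw [← res_res F hhV hV, h0, map_zero])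
  obtain ⟨k, a, ha, hk, rfl⟩ := exists_away 𝒜 (hv i) one_pos h
  rw [basicOpen_away 𝒜 (hv i) one_pos hk ha] at hyh
  have hya := right_not_mem 𝒜 ((ProjectiveSpectrum.mem_basicOpen 𝒜 _ y).mp hyh)
  have hyv := left_not_mem 𝒜 ((ProjectiveSpectrum.mem_basicOpen 𝒜 _ y).mp hyh)
  have ha' : a ∈ 𝒜 k := by rwa [smul_eq_mul, mul_one] at ha
  have hak : a ^ N ∈ 𝒜 (N * k) := by simpa [smul_eq_mul] using SetLike.pow_mem_graded N ha'
  have hi0 : (a ^ N • (t : Amb 𝒜 v F hv)) i = 0 := by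
    rw [amb_smul, map_pow, deh_of_mem 𝒜 (hv i) ha']; exact hN
  have hM : ∀ j, ∃ M : ℕ, deh 𝒜 (hv j) (v i) ^ M • (a ^ N • (t : Amb 𝒜 v F hv)) j = 0 := fun j => by
    refine (Groth.Agent.QC.isLoc_of_isQCoh (haff j)).exists_pow_smul_eq_zero _ _ ?_
    have hle := (Proj 𝒜).basicOpen_le (deh 𝒜 (hv j) (v i))
    have hle' : (Proj 𝒜).basicOpen (deh 𝒜 (hv j) (v i)) ≤ Proj.basicOpen 𝒜 (v i) := by
      rw [deh_of_mem 𝒜 (hv j) (hv i), basicOpen_away 𝒜 (hv j) one_pos one_pos, Proj.basicOpen_mul]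
      exact inf_le_right
    rw [Compat.smul hak t.2 j i _ hle hle', hi0, map_zero, smul_zero]
  choose M hM using hM
  let M0 := Finset.univ.sup M
  refine ⟨M0 + N * k, v i ^ M0 * a ^ N, SetLike.mul_mem_graded (pow_mem_one 𝒜 (hv i) M0) hak,
    not_mem_mul 𝒜 (not_mem_pow 𝒜 hyv _) (not_mem_pow 𝒜 hya _), ?_⟩
  rw [smul_ofG (SetLike.mul_mem_graded (pow_mem_one 𝒜 (hv i) M0) hak) t, ofG_eq_zero_iff]
  funext j
  change ((v i ^ M0 * a ^ N) • (t : Amb 𝒜 v F hv)) j = 0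
  rw [mul_smul, amb_smul, map_pow]
  have hle : M j ≤ M0 := Finset.le_sup (Finset.mem_univ j)
  rw [show M0 = (M0 - M j) + M j by omega, pow_add, mul_smul, hM, smul_zero]

lemma basicOpen_deh_eq (i j : ι) : (Proj 𝒜).basicOpen (deh 𝒜 (hv j) (v i)) =
    Proj.basicOpen 𝒜 (v j) ⊓ Proj.basicOpen 𝒜 (v i) := by
  rw [deh_of_mem 𝒜 (hv j) (hv i), basicOpen_away 𝒜 (hv j) one_pos one_pos, Proj.basicOpen_mul]

lemma exists_chart (hF : Coh.IsQCoh F) (i j : ι) (u : Γ(F, Proj.basicOpen 𝒜 (v i))) :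
    ∃ (n : ℕ) (s : Γ(F, Proj.basicOpen 𝒜 (v j))),
      ∀ (V : (Proj 𝒜).Opens) (h1 : V ≤ Proj.basicOpen 𝒜 (v j))
        (h2 : V ≤ Proj.basicOpen 𝒜 (v i)),
        res F h1 s = resO (Proj 𝒜) h1 (deh 𝒜 (hv j) (v i ^ n)) • res F h2 u := by
  haveI : F.IsQuasicoherent := hF
  have hD := basicOpen_deh_eq (hv := hv) i j
  obtain ⟨n, s, hs⟩ := (Groth.Agent.QC.isLoc_of_isQCoh (M := F)
    (ProjLib.isAffineOpen_basicOpen 𝒜 (hv j) one_pos)).exists_extend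
      (deh 𝒜 (hv j) (v i)) (res F (hD.le.trans inf_le_right) u)
  refine ⟨n, s, fun V h1 h2 => ?_⟩
  have h3 : V ≤ (Proj 𝒜).basicOpen (deh 𝒜 (hv j) (v i)) := (le_inf h1 h2).trans hD.ge
  rw [← res_res F h3 ((Proj 𝒜).basicOpen_le _), hs, res_smul, map_pow (resO (Proj 𝒜) h3),
    resO_resO, res_res, map_pow, map_pow]

lemma exists_kill (hF : Coh.IsQCoh F) (i j k : ι) (n : ℕ)
    (u : Γ(F, Proj.basicOpen 𝒜 (v i))) (wj : Γ(F, Proj.basicOpen 𝒜 (v j)))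
    (wk : Γ(F, Proj.basicOpen 𝒜 (v k)))
    (hj : ∀ (V : (Proj 𝒜).Opens) (h1 : V ≤ Proj.basicOpen 𝒜 (v j))
      (h2 : V ≤ Proj.basicOpen 𝒜 (v i)),
      res F h1 wj = resO (Proj 𝒜) h1 (deh 𝒜 (hv j) (v i ^ n)) • res F h2 u)
    (hk : ∀ (V : (Proj 𝒜).Opens) (h1 : V ≤ Proj.basicOpen 𝒜 (v k))
      (h2 : V ≤ Proj.basicOpen 𝒜 (v i)),
      res F h1 wk = resO (Proj 𝒜) h1 (deh 𝒜 (hv k) (v i ^ n)) • res F h2 u) :
    ∃ N : ℕ, ∀ (V : (Proj 𝒜).Opens) (h1 : V ≤ Proj.basicOpen 𝒜 (v j))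
      (h2 : V ≤ Proj.basicOpen 𝒜 (v k)),
      resO (Proj 𝒜) h1 (deh 𝒜 (hv j) (v i ^ N)) •
        (res F h1 wj - resO (Proj 𝒜) h1 (deh 𝒜 (hv j) (v k ^ n)) • res F h2 wk) = 0 := by
  haveI : F.IsQuasicoherent := hF
  have hW : IsAffineOpen (Proj.basicOpen 𝒜 (v j * v k)) := ProjLib.isAffineOpen_basicOpen 𝒜
    (SetLike.mul_mem_graded (hv j) (hv k)) (by norm_num)
  have e := Proj.basicOpen_mul 𝒜 (v j) (v k)
  have lj := e.le.trans inf_le_left
  have lk := e.le.trans inf_le_right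
  obtain ⟨N, hN⟩ := (Groth.Agent.QC.isLoc_of_isQCoh (M := F) hW).exists_pow_smul_eq_zero
    (resO (Proj 𝒜) lj (deh 𝒜 (hv j) (v i)))
    (res F lj wj - resO (Proj 𝒜) lj (deh 𝒜 (hv j) (v k ^ n)) • res F lk wk) (by
      set B := (Proj 𝒜).basicOpen (resO (Proj 𝒜) lj (deh 𝒜 (hv j) (v i))) with hB
      have hBW : B ≤ Proj.basicOpen 𝒜 (v j * v k) := (Proj 𝒜).basicOpen_le _
      have hBi : B ≤ Proj.basicOpen 𝒜 (v i) := by
        rw [hB, Scheme.basicOpen_res, basicOpen_deh_eq (hv := hv) i j]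
        exact inf_le_right.trans inf_le_right
      rw [map_sub, res_smul, resO_resO, res_res, res_res, hj B (hBW.trans lj) hBi,
        hk B (hBW.trans lk) hBi, smul_smul,
        ← deh_cross 𝒜 (hv j) (hv k) (pow_mem_one 𝒜 (hv i) n) (hBW.trans lj) (hBW.trans lk),
        sub_self])
  refine ⟨N, fun V h1 h2 => ?_⟩
  have hVW : V ≤ Proj.basicOpen 𝒜 (v j * v k) := (le_inf h1 h2).trans e.ge
  have := congrArg (res F hVW) hN
  rw [res_smul, map_sub, res_smul, map_pow, resO_resO, res_res, res_res, resO_resO, map_zero] at this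
  rw [map_pow, map_pow]
  exact this

/-- Every section on a chart comes from a homogeneous element of every large degree. -/
lemma exists_extend [Finite ι] (hF : Coh.IsQCoh F) (i : ι) (u : Γ(F, Proj.basicOpen 𝒜 (v i))) :
    ∃ n₀ : ℕ, ∀ n, n₀ ≤ n → ∃ t : G 𝒜 v hv F n, (t : Amb 𝒜 v F hv) i = u := by
  classical
  haveI := Fintype.ofFinite ι
  choose n s hs using fun j => exists_chart (hv := hv) hF i j u
  let n1 := Finset.univ.sup n
  obtain ⟨w, hw⟩ : ∃ w : Amb 𝒜 v F hv, ∀ (j : ι) (V : (Proj 𝒜).Opens)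
      (h1 : V ≤ Proj.basicOpen 𝒜 (v j)) (h2 : V ≤ Proj.basicOpen 𝒜 (v i)),
      res F h1 (w j) = resO (Proj 𝒜) h1 (deh 𝒜 (hv j) (v i ^ n1)) • res F h2 u := by
    refine ⟨fun j => deh 𝒜 (hv j) (v i ^ (n1 - n j)) • s j, fun j V h1 h2 => ?_⟩
    have hle : n j ≤ n1 := Finset.le_sup (Finset.mem_univ j)
    rw [res_smul, hs j V h1 h2, smul_smul, ← map_mul, ← map_mul, ← pow_add, Nat.sub_add_cancel hle]
  choose N hN using fun j k => exists_kill (hv := hv) hF i j k n1 u (w j) (w k) (hw j) (hw k)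
  let N0 := Finset.univ.sup fun p : ι × ι => N p.1 p.2
  refine ⟨n1 + N0, fun m hm => ?_⟩
  let t : Amb 𝒜 v F hv := v i ^ (m - n1) • w
  have hmem : t ∈ G 𝒜 v hv F m := by
    intro j k V h1 h2
    have hle : N j k ≤ N0 := Finset.le_sup (f := fun p : ι × ι => N p.1 p.2) (Finset.mem_univ (j, k))
    have h0 : resO (Proj 𝒜) h1 (deh 𝒜 (hv j) (v i ^ (m - n1))) •
        (res F h1 (w j) - resO (Proj 𝒜) h1 (deh 𝒜 (hv j) (v k ^ n1)) • res F h2 (w k)) = 0 := by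
      rw [show m - n1 = (m - n1 - N j k) + N j k by omega, pow_add, map_mul, map_mul, mul_smul,
        hN j k V h1 h2, smul_zero]
    rw [smul_sub, sub_eq_zero, smul_smul] at h0
    change res F h1 ((v i ^ (m - n1) • w) j) = _ • res F h2 ((v i ^ (m - n1) • w) k)
    rw [amb_smul, amb_smul, res_smul, res_smul, h0, smul_smul,
      deh_cross 𝒜 (hv j) (hv k) (pow_mem_one 𝒜 (hv i) (m - n1)) h1 h2,
      show v k ^ m = v k ^ (m - n1) * v k ^ n1 by rw [← pow_add]; congr 1; omega,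
      map_mul (deh 𝒜 (hv j)), map_mul (resO (Proj 𝒜) h1)]
    congr 1
    ring
  refine ⟨⟨t, hmem⟩, ?_⟩
  have := hw i _ le_rfl le_rfl
  rw [res_self, res_self, resO_self, map_pow, deh_self, one_pow, one_smul] at this
  change (v i ^ (m - n1) • w) i = u
  rw [amb_smul, map_pow, deh_self, one_pow, one_smul, this]

end GrT
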