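import Groth.Agent.GrT.QCoh

/-!
Dehomogenisation `A → Γ(D₊(f), O)` for `f` of degree one.
-/

set_option autoImplicit false
set_option backward.isDefEq.respectTransparency false

universe u

open CategoryTheory DirectSum TopologicalSpace AlgebraicGeometry Opposite HomogeneousLocalization
open Groth.Agent.QC (resO)

noncomputable section

namespace GrT

variable {R A : Type u} [CommRing R] [CommRing A] [Algebra R A] (𝒜 : ℕ → Submodule R A)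
  [GradedAlgebra 𝒜]

/-- The value of a function at a point. -/
abbrev pO {V : (Proj 𝒜).Opens} (c : Γ(Proj 𝒜, V)) (y : V) : Twist.Loc 𝒜 y.1 :=
  ((c : Twist.O (𝒜 := 𝒜) (op V)).1 y).val

lemma pO_ext {V : (Proj 𝒜).Opens} {c c' : Γ(Proj 𝒜, V)} (h : ∀ y : V, pO 𝒜 c y = pO 𝒜 c' y) :
    c = c' :=
  show (c : Twist.O (𝒜 := 𝒜) (op V)) = c' from
    Subtype.ext (funext fun y => val_injective _ (h y))

lemma pO_mul {V : (Proj 𝒜).Opens} (c c' : Γ(Proj 𝒜, V)) (y : V) :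
    pO 𝒜 (c * c') y = pO 𝒜 c y * pO 𝒜 c' y :=
  val_mul _ _

lemma pO_add {V : (Proj 𝒜).Opens} (c c' : Γ(Proj 𝒜, V)) (y : V) :
    pO 𝒜 (c + c') y = pO 𝒜 c y + pO 𝒜 c' y :=
  val_add _ _

lemma pO_one {V : (Proj 𝒜).Opens} (y : V) : pO 𝒜 (1 : Γ(Proj 𝒜, V)) y = 1 :=
  val_one (𝒜 := 𝒜) (x := y.1.asHomogeneousIdeal.toIdeal.primeCompl)

lemma pO_zero {V : (Proj 𝒜).Opens} (y : V) : pO 𝒜 (0 : Γ(Proj 𝒜, V)) y = 0 :=
  val_zero (𝒜 := 𝒜) (x := y.1.asHomogeneousIdeal.toIdeal.primeCompl)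

lemma mem_smul_one {a : A} {n : ℕ} (ha : a ∈ 𝒜 n) : a ∈ 𝒜 (n • 1) := by
  rwa [smul_eq_mul, mul_one]

lemma pO_away {f : A} (hf : f ∈ 𝒜 1) {n : ℕ} {a : A} (ha : a ∈ 𝒜 (n • 1)) {V : (Proj 𝒜).Opens}
    (h : V ≤ Proj.basicOpen 𝒜 f) (y : V) (hy : f ^ n ∉ y.1.asHomogeneousIdeal) :
    pO 𝒜 (resO (Proj 𝒜) h (away 𝒜 hf n ha)) y = Localization.mk a ⟨f ^ n, hy⟩ := rfl

lemma not_mem_of_mem {f : A} {V : (Proj 𝒜).Opens} (h : V ≤ Proj.basicOpen 𝒜 f) (y : V) :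
    f ∉ y.1.asHomogeneousIdeal :=
  (ProjectiveSpectrum.mem_basicOpen 𝒜 f y.1).mp (h y.2)

/-- `a ↦ a / f ^ n` on `𝒜 n`. -/
def awayHom {f : A} (hf : f ∈ 𝒜 1) (n : ℕ) : 𝒜 n →+ Γ(Proj 𝒜, Proj.basicOpen 𝒜 f) where
  toFun a := away 𝒜 hf n (mem_smul_one 𝒜 a.2)
  map_zero' := pO_ext 𝒜 fun y => by
    have hy := not_mem_pow 𝒜 (not_mem_of_mem 𝒜 le_rfl y) n
    rw [← Groth.Agent.QC.resO_self le_rfl (away 𝒜 hf n _), pO_away 𝒜 hf _ le_rfl y hy, pO_zero]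
    exact Localization.mk_zero _
  map_add' a b := pO_ext 𝒜 fun y => by
    have hy := not_mem_pow 𝒜 (not_mem_of_mem 𝒜 le_rfl y) n
    rw [pO_add]
    change (Localization.mk _ ⟨f ^ n, hy⟩ : Twist.Loc 𝒜 y.1) =
      Localization.mk _ ⟨f ^ n, hy⟩ + Localization.mk _ ⟨f ^ n, hy⟩
    rw [Localization.add_mk_self]
    rfl

/-- Dehomogenisation. -/
def deh {f : A} (hf : f ∈ 𝒜 1) : A →+* Γ(Proj 𝒜, Proj.basicOpen 𝒜 f) :=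
  (DirectSum.toSemiring (fun n => awayHom 𝒜 hf n)
    (pO_ext 𝒜 fun y => by
      rw [pO_one]
      change (Localization.mk (1 : A) ⟨f ^ 0, _⟩ : Twist.Loc 𝒜 y.1) = 1
      rw [← Localization.mk_one]
      congr 1
      exact Subtype.ext (pow_zero f))
    (fun {i j} a b => pO_ext 𝒜 fun y => by
      rw [pO_mul]
      have hy := fun k => not_mem_pow 𝒜 (not_mem_of_mem 𝒜 le_rfl y) k
      change (Localization.mk ((a : A) * (b : A)) ⟨f ^ (i + j), hy _⟩ : Twist.Loc 𝒜 y.1) =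
        Localization.mk (a : A) ⟨f ^ i, hy _⟩ * Localization.mk (b : A) ⟨f ^ j, hy _⟩
      rw [Localization.mk_mul]
      congr 1
      exact Subtype.ext (pow_add f i j))).comp
    (decomposeRingEquiv 𝒜).toRingHom

lemma deh_of_mem {f : A} (hf : f ∈ 𝒜 1) {n : ℕ} {a : A} (ha : a ∈ 𝒜 n) :
    deh 𝒜 hf a = away 𝒜 hf n (mem_smul_one 𝒜 ha) := by
  have h : decomposeRingEquiv 𝒜 a = DirectSum.of _ n ⟨a, ha⟩ := decompose_of_mem 𝒜 ha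
  simp only [deh, RingHom.comp_apply, RingEquiv.toRingHom_eq_coe, RingEquiv.coe_toRingHom, h,
    toSemiring_of]
  rfl

lemma pO_deh {f : A} (hf : f ∈ 𝒜 1) {n : ℕ} {a : A} (ha : a ∈ 𝒜 n) {V : (Proj 𝒜).Opens}
    (h : V ≤ Proj.basicOpen 𝒜 f) (y : V) (hy : f ^ n ∉ y.1.asHomogeneousIdeal) :
    pO 𝒜 (resO (Proj 𝒜) h (deh 𝒜 hf a)) y = Localization.mk a ⟨f ^ n, hy⟩ := by
  rw [deh_of_mem 𝒜 hf ha]; rfl

lemma pow_mem_one {f : A} (hf : f ∈ 𝒜 1) (n : ℕ) : f ^ n ∈ 𝒜 n := by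
  have := SetLike.pow_mem_graded n hf
  rwa [smul_eq_mul, mul_one] at this

lemma deh_self {f : A} (hf : f ∈ 𝒜 1) : deh 𝒜 hf f = 1 := pO_ext 𝒜 fun y => by
  have hy := not_mem_pow 𝒜 (not_mem_of_mem 𝒜 le_rfl y) 1
  rw [← Groth.Agent.QC.resO_self le_rfl (deh 𝒜 hf f), pO_deh 𝒜 hf hf le_rfl y hy, pO_one,
    Localization.mk_eq_mk', IsLocalization.mk'_eq_iff_eq_mul]
  simp

/-- Change of chart. -/
lemma deh_cross {f g : A} (hf : f ∈ 𝒜 1) (hg : g ∈ 𝒜 1) {n : ℕ} {a : A} (ha : a ∈ 𝒜 n)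
    {V : (Proj 𝒜).Opens} (h1 : V ≤ Proj.basicOpen 𝒜 f) (h2 : V ≤ Proj.basicOpen 𝒜 g) :
    resO (Proj 𝒜) h1 (deh 𝒜 hf a) =
      resO (Proj 𝒜) h1 (deh 𝒜 hf (g ^ n)) * resO (Proj 𝒜) h2 (deh 𝒜 hg a) := pO_ext 𝒜 fun y => by
  have hy := not_mem_pow 𝒜 (not_mem_of_mem 𝒜 h1 y) n
  have hy' := not_mem_pow 𝒜 (not_mem_of_mem 𝒜 h2 y) n
  rw [pO_mul, pO_deh 𝒜 hf ha h1 y hy, pO_deh 𝒜 hf (pow_mem_one 𝒜 hg n) h1 y hy,
    pO_deh 𝒜 hg ha h2 y hy', Localization.mk_mul, Localization.mk_eq_mk_iff,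
    Localization.r_iff_exists]
  exact ⟨1, by simp only [Submonoid.coe_mul, OneMemClass.coe_one, one_mul]; ring⟩

lemma deh_inv {f g : A} (hf : f ∈ 𝒜 1) (hg : g ∈ 𝒜 1) (n : ℕ)
    {V : (Proj 𝒜).Opens} (h1 : V ≤ Proj.basicOpen 𝒜 f) (h2 : V ≤ Proj.basicOpen 𝒜 g) :
    resO (Proj 𝒜) h1 (deh 𝒜 hf (g ^ n)) * resO (Proj 𝒜) h2 (deh 𝒜 hg (f ^ n)) = 1 := by
  rw [← deh_cross 𝒜 hf hg (pow_mem_one 𝒜 hf n) h1 h2, map_pow, deh_self, one_pow, map_one]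

lemma isUnit_deh_pow {f g : A} (hf : f ∈ 𝒜 1) (hg : g ∈ 𝒜 1) (n : ℕ)
    {V : (Proj 𝒜).Opens} (h1 : V ≤ Proj.basicOpen 𝒜 f) (h2 : V ≤ Proj.basicOpen 𝒜 g) :
    IsUnit (resO (Proj 𝒜) h1 (deh 𝒜 hf (g ^ n))) :=
  IsUnit.of_mul_eq_one _ (deh_inv 𝒜 hf hg n h1 h2)

/-- `a / f ^ n` is a unit where `a` does not vanish. -/
lemma isUnit_deh {f b : A} (hf : f ∈ 𝒜 1) {n : ℕ} (hb : b ∈ 𝒜 n)
    {V : (Proj 𝒜).Opens} (h1 : V ≤ Proj.basicOpen 𝒜 f) (h2 : V ≤ Proj.basicOpen 𝒜 b) :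
    IsUnit (resO (Proj 𝒜) h1 (deh 𝒜 hf b)) := by
  rcases Nat.eq_zero_or_pos n with rfl | hn
  · have h3 : V ≤ Proj.basicOpen 𝒜 (b * f) := fun y hy =>
      (ProjectiveSpectrum.mem_basicOpen 𝒜 _ y).mpr
        (not_mem_mul 𝒜 (not_mem_of_mem 𝒜 h2 ⟨y, hy⟩) (not_mem_of_mem 𝒜 h1 ⟨y, hy⟩))
    have hbf : b * f ∈ 𝒜 1 := by simpa using SetLike.mul_mem_graded hb hf
    have hu := IsUnit.of_mul_eq_one _ (deh_inv 𝒜 hf hbf 1 h1 h3)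
    rwa [pow_one, map_mul (deh 𝒜 hf), deh_self, mul_one] at hu
  · have hD := basicOpen_away 𝒜 hf one_pos hn (mem_smul_one 𝒜 hb)
    rw [← deh_of_mem 𝒜 hf hb] at hD
    have hV : V ≤ (Proj 𝒜).basicOpen (deh 𝒜 hf b) := by
      rw [hD, Proj.basicOpen_mul]; exact le_inf h1 h2
    rw [← Groth.Agent.QC.resO_resO hV ((Proj 𝒜).basicOpen_le _)]
    exact (RingedSpace.isUnit_res_basicOpen _ (deh 𝒜 hf b)).map _

end GrT
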