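import Groth.Agent.GrT.Affine
import Groth.Agent.QC.FiniteType
import Groth.Agent.QC.Local

/-!
`GrTilde.tilde` is quasi-coherent; vanishing; finite type.
-/

set_option autoImplicit false
set_option backward.isDefEq.respectTransparency false

universe u

open CategoryTheory CategoryTheory.Limits DirectSum TopologicalSpace AlgebraicGeometry Opposite
  HomogeneousLocalization
open Groth.Agent.QC (res resO)

noncomputable section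

namespace GrT

variable {R A : Type u} [CommRing R] [CommRing A] [Algebra R A] (𝒜 : ℕ → Submodule R A)
  [GradedAlgebra 𝒜]

/-- The function `a / f ^ k` on `D₊(f)`. -/
def away {f : A} {d : ℕ} (hf : f ∈ 𝒜 d) (k : ℕ) {a : A} (ha : a ∈ 𝒜 (k • d)) :
    Γ(Proj 𝒜, Proj.basicOpen 𝒜 f) :=
  (Proj.awayToSection 𝒜 f).hom (Away.mk 𝒜 hf k a ha)

lemma exists_away {f : A} {d : ℕ} (hf : f ∈ 𝒜 d) (hd : 0 < d)
    (h : Γ(Proj 𝒜, Proj.basicOpen 𝒜 f)) :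
    ∃ (k : ℕ) (a : A) (ha : a ∈ 𝒜 (k • d)), 0 < k ∧ h = away 𝒜 hf k ha := by
  obtain ⟨x, rfl⟩ := (ProjLib.awayToSection_bijective 𝒜 hf hd).2 h
  obtain ⟨k, a, ha, rfl⟩ := Away.mk_surjective 𝒜 hf x
  refine ⟨k + 1, a * f, by rw [add_smul, one_smul]; exact SetLike.mul_mem_graded ha hf,
    Nat.succ_pos _, congrArg _ (val_injective _ ?_)⟩
  rw [Away.val_mk, Away.val_mk, Localization.mk_eq_mk_iff, Localization.r_iff_exists]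
  exact ⟨1, by simp [pow_succ]; ring⟩

lemma away_pow {f : A} {d : ℕ} (hf : f ∈ 𝒜 d) {k : ℕ} {a : A} (ha : a ∈ 𝒜 (k • d)) (l : ℕ) :
    away 𝒜 hf k ha ^ l = away 𝒜 hf (l * k) (a := a ^ l)
      (by rw [mul_smul]; exact SetLike.pow_mem_graded l ha) := by
  refine (map_pow _ _ l).symm.trans (congrArg _ (val_injective _ ?_))
  rw [val_pow, Away.val_mk, Away.val_mk, Localization.mk_pow]
  congr 1
  exact Subtype.ext (by simp only [SubmonoidClass.coe_pow]; rw [← pow_mul, mul_comm])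

lemma basicOpen_away {f : A} {d : ℕ} (hf : f ∈ 𝒜 d) (hd : 0 < d) {k : ℕ} (hk : 0 < k) {a : A}
    (ha : a ∈ 𝒜 (k • d)) :
    (Proj 𝒜).basicOpen (away 𝒜 hf k ha) = Proj.basicOpen 𝒜 (f * a) := by
  rw [← ProjLib.basicOpen_awayToSection 𝒜 ha hf (Nat.mul_pos hk hd) hd,
    ← Scheme.basicOpen_pow (Proj 𝒜) (away 𝒜 hf k ha) hd, away_pow]
  refine congrArg _ (congrArg _ (val_injective _ ?_))
  rw [Away.val_mk, Away.val_mk]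
  congr 1
  exact Subtype.ext (by simp only [smul_eq_mul]; rw [mul_comm])

variable {M : Type u} [AddCommGroup M] [Module R M] [Module A M] (ℳ : ℕ → Submodule R M)
variable [SetLike.GradedSMul 𝒜 ℳ]

/-- The value of a section at a point. -/
abbrev pt {n : ℤ} {U : (Proj 𝒜).Opens} (s : Γ(GrTilde.tilde 𝒜 ℳ n, U)) (y : U) :
    GrTilde.LocMod 𝒜 (M := M) y.1 :=
  ((s : GrTilde.sect 𝒜 ℳ n (op U)).1 y).1

lemma pt_res {n : ℤ} {U V : (Proj 𝒜).Opens} (h : V ≤ U) (s : Γ(GrTilde.tilde 𝒜 ℳ n, U)) (y : V) :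
    pt 𝒜 ℳ (res (GrTilde.tilde 𝒜 ℳ n) h s) y = pt 𝒜 ℳ s ⟨y.1, h y.2⟩ := rfl

lemma pt_away_smul {n : ℤ} {f : A} {d : ℕ} (hf : f ∈ 𝒜 d) {k : ℕ} {a : A} (ha : a ∈ 𝒜 (k • d))
    {V : (Proj 𝒜).Opens} (h : V ≤ Proj.basicOpen 𝒜 f) (s : Γ(GrTilde.tilde 𝒜 ℳ n, V)) (y : V)
    {b : M} {g : A} {hg : g ∉ y.1.asHomogeneousIdeal} (hs : pt 𝒜 ℳ s y = fr 𝒜 y.1 b g hg)
    (hfg : f ^ k * g ∉ y.1.asHomogeneousIdeal) :
    pt 𝒜 ℳ (resO (Proj 𝒜) h (away 𝒜 hf k ha) • s) y = fr 𝒜 y.1 (a • b) (f ^ k * g) hfg := by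
  have hfk : f ^ k ∉ y.1.asHomogeneousIdeal := left_not_mem 𝒜 hfg
  change (Localization.mk a ⟨f ^ k, hfk⟩ : Twist.Loc 𝒜 y.1) • pt 𝒜 ℳ s y = _
  rw [hs, LocalizedModule.mk_smul_mk]
  rfl

lemma pt_ext {n : ℤ} {U : (Proj 𝒜).Opens} {s t : Γ(GrTilde.tilde 𝒜 ℳ n, U)}
    (h : ∀ y : U, pt 𝒜 ℳ s y = pt 𝒜 ℳ t y) : s = t :=
  sect_ext 𝒜 ℳ (s := (s : GrTilde.sect 𝒜 ℳ n (op U))) h

variable [DirectSum.Decomposition ℳ]

lemma isLoc_tilde (n : ℤ) {f : A} {d : ℕ} (hf : f ∈ 𝒜 d) (hd : 0 < d) :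
    Groth.Agent.QC.IsLoc (GrTilde.tilde 𝒜 ℳ n) (Proj.basicOpen 𝒜 f) := by
  refine ⟨fun h t => ?_, fun h s hs => ?_⟩
  · obtain ⟨k, a, ha, hk, rfl⟩ := exists_away 𝒜 hf hd h
    have hle := (Proj 𝒜).basicOpen_le (away 𝒜 hf k ha)
    have hD := basicOpen_away 𝒜 hf hd hk ha
    obtain ⟨l, i, m, hi, hm, ht⟩ := exists_frac_basicOpen 𝒜 ℳ n (Nat.add_pos_left hd _)
      (SetLike.mul_mem_graded hf ha) (res (GrTilde.tilde 𝒜 ℳ n) hD.ge t)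
    have hn : (i : ℤ) = ((l * (k + 1) * d : ℕ) : ℤ) + n := by
      simp only [smul_eq_mul] at hi; push_cast at hi ⊢; linarith
    have hU : ∀ y : Proj.basicOpen 𝒜 f, f ^ (l * (k + 1)) ∉ y.1.asHomogeneousIdeal := fun y =>
      not_mem_pow 𝒜 ((ProjectiveSpectrum.mem_basicOpen 𝒜 f y.1).mp y.2) _
    refine ⟨l, fracSect 𝒜 ℳ n hm (SetLike.pow_mem_graded (l * (k + 1)) hf) hn _ hU,
      pt_ext 𝒜 ℳ fun y => ?_⟩
    rw [← map_pow, away_pow, pt_res]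
    have hy : (f * a) ∉ y.1.asHomogeneousIdeal :=
      (ProjectiveSpectrum.mem_basicOpen 𝒜 _ y.1).mp (hD.le y.2)
    have hfy : f ∉ y.1.asHomogeneousIdeal := left_not_mem 𝒜 hy
    refine Eq.trans ?_ (pt_away_smul 𝒜 ℳ hf _ hle t y (hg := not_mem_pow 𝒜 hy l)
      (ht ⟨y.1, hD.le y.2⟩ (not_mem_pow 𝒜 hy l))
      (not_mem_mul 𝒜 (not_mem_pow 𝒜 hfy _) (not_mem_pow 𝒜 hy l))).symm
    exact fr_congr 𝒜 y.1 _ _ (by rw [smul_smul]; congr 1; ring)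
  · obtain ⟨k, a, ha, hk, rfl⟩ := exists_away 𝒜 hf hd h
    have hD := basicOpen_away 𝒜 hf hd hk ha
    obtain ⟨l, i, m, hi, hm, hs'⟩ := exists_frac_basicOpen 𝒜 ℳ n hd hf s
    obtain ⟨N, hN⟩ := exists_pow_smul_eq_zero 𝒜 ℳ hm (Nat.add_pos_left hd _)
      (SetLike.mul_mem_graded hf ha) fun x hx => by
        have hfx := left_not_mem 𝒜 hx
        let y : (Proj 𝒜).basicOpen (away 𝒜 hf k ha) :=
          ⟨x, hD.ge ((ProjectiveSpectrum.mem_basicOpen 𝒜 _ x).mpr hx)⟩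
        have h0 : pt 𝒜 ℳ s ⟨x, (Proj 𝒜).basicOpen_le _ y.2⟩ = 0 := by
          rw [← pt_res 𝒜 ℳ _ s y, hs]; rfl
        exact (fr_eq_zero_iff 𝒜 x (not_mem_pow 𝒜 hfx l)).mp ((hs' _ _).symm.trans h0)
    refine ⟨N, pt_ext 𝒜 ℳ fun y => ?_⟩
    have hfy : f ∉ y.1.asHomogeneousIdeal := (ProjectiveSpectrum.mem_basicOpen 𝒜 f y.1).mp y.2
    rw [away_pow, ← Groth.Agent.QC.resO_self le_rfl (away 𝒜 hf (N * k) _)]
    refine (pt_away_smul 𝒜 ℳ hf _ le_rfl s y (hg := not_mem_pow 𝒜 hfy l)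
      (hs' y (not_mem_pow 𝒜 hfy l))
      (not_mem_mul 𝒜 (not_mem_pow 𝒜 hfy _) (not_mem_pow 𝒜 hfy l))).trans ?_
    refine ((fr_eq_zero_iff 𝒜 y.1 _).mpr ⟨f ^ N, not_mem_pow 𝒜 hfy N, ?_⟩)
    rw [smul_smul, ← mul_pow, hN]

/-- `M(n)~` is quasi-coherent. -/
theorem isQCoh_tilde (n : ℤ) : Coh.IsQCoh (GrTilde.tilde 𝒜 ℳ n) :=
  Groth.Agent.QC.isQCoh_of_isLoc fun x => by
    obtain ⟨d, f, hd, hf, hfx⟩ := exists_pos_homog 𝒜 x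
    exact ⟨Proj.basicOpen 𝒜 f, ProjLib.isAffineOpen_basicOpen 𝒜 hf hd,
      (ProjectiveSpectrum.mem_basicOpen 𝒜 f x).mpr hfx, isLoc_tilde 𝒜 ℳ n hf hd⟩

end GrT
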