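import Groth.Agent.GrT.TwistTensor
import Groth.Agent.InvGen.Basic

/-!
Maps of `GrTilde.tilde` induced by linear maps of modules with a degree shift, and exactness.
-/

set_option autoImplicit false
set_option linter.unusedSectionVars false
set_option backward.isDefEq.respectTransparency false

universe u

open CategoryTheory CategoryTheory.Limits TopologicalSpace AlgebraicGeometry Opposite
open Groth.Agent.QC (res resO)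

noncomputable section

namespace GrT

variable {R A : Type u} [CommRing R] [CommRing A] [Algebra R A] (𝒜 : ℕ → Submodule R A) [GradedAlgebra 𝒜]
variable {M : Type u} [AddCommGroup M] [Module R M] [Module A M] (ℳ : ℕ → Submodule R M) [SetLike.GradedSMul 𝒜 ℳ]
variable {N : Type u} [AddCommGroup N] [Module R N] [Module A N] (𝒩 : ℕ → Submodule R N) [SetLike.GradedSMul 𝒜 𝒩]
variable {P : Type u} [AddCommGroup P] [Module R P] [Module A P] (𝒬 : ℕ → Submodule R P) [SetLike.GradedSMul 𝒜 𝒬]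

/-- `f` sends fractions of degree `n` to fractions of degree `n'`. -/
def Shift (f : M →ₗ[A] N) (n n' : ℤ) : Prop :=
  ∀ i j : ℕ, (i : ℤ) = j + n → ∀ m ∈ ℳ i, f m = 0 ∨ ∃ i' : ℕ, (i' : ℤ) = j + n' ∧ f m ∈ 𝒩 i'

/-- `M_x → N_x`. -/
def mapLoc (f : M →ₗ[A] N) (x : ProjectiveSpectrum 𝒜) :
    GrTilde.LocMod 𝒜 (M := M) x →ₗ[Localization.AtPrime x.asHomogeneousIdeal.toIdeal]
      GrTilde.LocMod 𝒜 (M := N) x :=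
  LocalizedModule.map x.asHomogeneousIdeal.toIdeal.primeCompl f

lemma mapLoc_fr (f : M →ₗ[A] N) (x : ProjectiveSpectrum 𝒜) (a : M) {g : A}
    (hg : g ∉ x.asHomogeneousIdeal) : mapLoc 𝒜 f x (fr 𝒜 x a g hg) = fr 𝒜 x (f a) g hg :=
  LocalizedModule.map_mk _ _ _ _

variable {ℳ 𝒩 𝒬}

lemma mapLoc_mem {f : M →ₗ[A] N} {n n' : ℤ} (h : Shift ℳ 𝒩 f n n') (x : ProjectiveSpectrum 𝒜)
    {q : GrTilde.LocMod 𝒜 (M := M) x} (hq : q ∈ GrTilde.tildeAt 𝒜 ℳ n x) :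
    mapLoc 𝒜 f x q ∈ GrTilde.tildeAt 𝒜 𝒩 n' x := by
  obtain ⟨i, j, a, g, hg, ha, hgj, hn, rfl⟩ := exists_frac_at 𝒜 ℳ n x hq
  rw [mapLoc_fr 𝒜]
  rcases h i j hn a ha with h0 | ⟨i', hi', hfa⟩
  · rw [h0, fr_zero]; exact zero_mem _
  · exact Submodule.subset_span ⟨i', j, ⟨f a, hfa⟩, ⟨g, hgj⟩, hg, hi', rfl⟩

/-- The map on sections. -/
def mapFun {f : M →ₗ[A] N} {n n' : ℤ} (h : Shift ℳ 𝒩 f n n') {U : (Proj 𝒜).Opens}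
    (s : GrTilde.sect 𝒜 ℳ n (op U)) : GrTilde.sect 𝒜 𝒩 n' (op U) :=
  ⟨fun y => ⟨mapLoc 𝒜 f y.1 (s.1 y).1, mapLoc_mem 𝒜 h y.1 (s.1 y).2⟩, fun y => by
    obtain ⟨e, i, g, a, -, hge, ha, hn, hgy, hle, w⟩ := exists_frac_nhd 𝒜 ℳ s y
    have nin : ∀ z : (ProjectiveSpectrum.basicOpen 𝒜 g : Opens (ProjectiveSpectrum.top 𝒜)), g ∉ z.1.asHomogeneousIdeal :=
      fun z => (ProjectiveSpectrum.mem_basicOpen 𝒜 g z.1).mp z.2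
    rcases h i e hn a ha with h0 | ⟨i', hi', hfa⟩
    · refine ⟨ProjectiveSpectrum.basicOpen 𝒜 g, (ProjectiveSpectrum.mem_basicOpen 𝒜 g y.1).mpr hgy, homOfLE hle,
        0, e, 0, ⟨g, hge⟩, nin, Or.inr rfl, fun z => ?_⟩
      change mapLoc 𝒜 f z.1 (s.1 ⟨z.1, hle z.2⟩).1 = _
      rw [w ⟨z.1, hle z.2⟩ (nin z), mapLoc_fr 𝒜, h0]
      rfl
    · refine ⟨ProjectiveSpectrum.basicOpen 𝒜 g, (ProjectiveSpectrum.mem_basicOpen 𝒜 g y.1).mpr hgy, homOfLE hle,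
        i', e, ⟨f a, hfa⟩, ⟨g, hge⟩, nin, Or.inl hi', fun z => ?_⟩
      change mapLoc 𝒜 f z.1 (s.1 ⟨z.1, hle z.2⟩).1 = _
      rw [w ⟨z.1, hle z.2⟩ (nin z), mapLoc_fr 𝒜]⟩

/-- `M(n)~ ⟶ N(n')~`. -/
def mapTilde {f : M →ₗ[A] N} {n n' : ℤ} (h : Shift ℳ 𝒩 f n n') :
    GrTilde.tilde 𝒜 ℳ n ⟶ GrTilde.tilde 𝒜 𝒩 n' :=
  ⟨PresheafOfModules.homMk
    { app := fun U => AddCommGrpCat.ofHom
        (AddMonoidHom.mk' (fun s : Γ(GrTilde.tilde 𝒜 ℳ n, U.unop) =>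
          (mapFun 𝒜 h s : Γ(GrTilde.tilde 𝒜 𝒩 n', U.unop)))
          fun s t => sect_ext 𝒜 𝒩 fun y => map_add (mapLoc 𝒜 f y.1) _ _)
      naturality := fun _ _ _ => rfl }
    fun U c s => sect_ext 𝒜 𝒩 fun y =>
      LinearMap.map_smul (mapLoc 𝒜 f y.1) ((c : Twist.O (𝒜 := 𝒜) U).1 y).val _⟩

lemma pt_mapTilde {f : M →ₗ[A] N} {n n' : ℤ} (h : Shift ℳ 𝒩 f n n') {U : (Proj 𝒜).Opens}
    (s : Γ(GrTilde.tilde 𝒜 ℳ n, U)) (y : U) :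
    pt 𝒜 𝒩 ((mapTilde 𝒜 h).app U s) y = mapLoc 𝒜 f y.1 (pt 𝒜 ℳ s y) := rfl

lemma mapLoc_comp (f : M →ₗ[A] N) (g : N →ₗ[A] P) (x : ProjectiveSpectrum 𝒜) (q : GrTilde.LocMod 𝒜 (M := M) x) :
    mapLoc 𝒜 g x (mapLoc 𝒜 f x q) = mapLoc 𝒜 (g ∘ₗ f) x q := by
  induction q using LocalizedModule.induction_on with
  | h m s => exact ((congrArg _ (mapLoc_fr 𝒜 f x m s.2)).trans (mapLoc_fr 𝒜 g x (f m) s.2)).trans (mapLoc_fr 𝒜 (g ∘ₗ f) x m s.2).symm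

lemma mapLoc_id (x : ProjectiveSpectrum 𝒜) (q : GrTilde.LocMod 𝒜 (M := M) x) :
    mapLoc 𝒜 (LinearMap.id : M →ₗ[A] M) x q = q := by
  induction q using LocalizedModule.induction_on with
  | h m s => exact mapLoc_fr 𝒜 _ x m s.2

lemma mapLoc_sum {ι : Type*} (t : Finset ι) (f : ι → (M →ₗ[A] N)) (x : ProjectiveSpectrum 𝒜)
    (q : GrTilde.LocMod 𝒜 (M := M) x) : mapLoc 𝒜 (∑ i ∈ t, f i) x q = ∑ i ∈ t, mapLoc 𝒜 (f i) x q := by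
  simp only [mapLoc, map_sum, LinearMap.sum_apply]

lemma mapTilde_comp {f : M →ₗ[A] N} {g : N →ₗ[A] P} {n n' n'' : ℤ} (hf : Shift ℳ 𝒩 f n n')
    (hg : Shift 𝒩 𝒬 g n' n'') (hgf : Shift ℳ 𝒬 (g ∘ₗ f) n n'') :
    mapTilde 𝒜 hf ≫ mapTilde 𝒜 hg = mapTilde 𝒜 hgf := by
  refine Scheme.Modules.hom_ext _ _ fun U => ?_
  ext s
  exact pt_ext 𝒜 _ fun y => mapLoc_comp 𝒜 f g y.1 _

lemma mapTilde_id {n : ℤ} (h : Shift ℳ ℳ (LinearMap.id : M →ₗ[A] M) n n) : mapTilde 𝒜 h = 𝟙 _ := by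
  refine Scheme.Modules.hom_ext _ _ fun U => ?_
  ext s
  exact pt_ext 𝒜 _ fun y => mapLoc_id 𝒜 y.1 _

lemma mapTilde_eq_zero {f : M →ₗ[A] N} {n n' : ℤ} (h : Shift ℳ 𝒩 f n n') (hf : f = 0) : mapTilde 𝒜 h = 0 := by
  refine Scheme.Modules.hom_ext _ _ fun U => ?_
  ext s
  refine pt_ext 𝒜 _ fun y => ?_
  subst hf
  show mapLoc 𝒜 (0 : M →ₗ[A] N) y.1 _ = 0
  simp only [mapLoc, map_zero, LinearMap.zero_apply]

variable (ℳ) in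
/-- Evaluation of morphisms at a section and a point. -/
def evalAt {X : (Proj 𝒜).Modules} {n : ℤ} {U : (Proj 𝒜).Opens} (s : Γ(X, U)) (y : U) :
    (X ⟶ GrTilde.tilde 𝒜 ℳ n) →+ GrTilde.LocMod 𝒜 (M := M) y.1 :=
  AddMonoidHom.mk' (fun φ => pt 𝒜 ℳ (φ.app U s) y) fun _ _ => rfl

lemma mapTilde_sum {ι : Type*} (t : Finset ι) {f : M →ₗ[A] N} {n n' : ℤ} (h : Shift ℳ 𝒩 f n n')
    (g : ι → (M →ₗ[A] N)) (hg : ∀ i, Shift ℳ 𝒩 (g i) n n') (hf : f = ∑ i ∈ t, g i) :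
    mapTilde 𝒜 h = ∑ i ∈ t, mapTilde 𝒜 (hg i) := by
  refine Scheme.Modules.hom_ext _ _ fun U => ?_
  ext s
  refine pt_ext 𝒜 _ fun y => ?_
  refine Eq.trans ?_ (map_sum (evalAt 𝒜 𝒩 s y) _ _).symm
  show mapLoc 𝒜 f y.1 _ = _
  rw [hf, mapLoc_sum]
  rfl

/-- Surjectivity in every degree gives an epimorphism. -/
theorem epi_mapTilde {g : N →ₗ[A] P} {n : ℤ} (hg : Shift 𝒩 𝒬 g n n)
    (hsur : ∀ i : ℕ, ∀ z ∈ 𝒬 i, ∃ y ∈ 𝒩 i, g y = z) : Epi (mapTilde 𝒜 hg) := by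
  refine InvGen.epi_of_locally _ fun U t x hx => ?_
  obtain ⟨e, i, a, b, he, hae, hbi, hn, hax, hle, w⟩ := exists_frac_nhd 𝒜 𝒬 t ⟨x, hx⟩
  obtain ⟨c, hci, hgc⟩ := hsur i b hbi
  refine ⟨ProjectiveSpectrum.basicOpen 𝒜 a, hle, (ProjectiveSpectrum.mem_basicOpen 𝒜 a x).mpr hax,
    fracSect 𝒜 𝒩 n hci hae hn _ fun y => (ProjectiveSpectrum.mem_basicOpen 𝒜 a y.1).mp y.2, ?_⟩
  refine pt_ext 𝒜 _ fun y => ?_
  rw [pt_mapTilde]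
  refine (mapLoc_fr 𝒜 g y.1 c _).trans ?_
  subst hgc
  exact (w ⟨y.1, hle y.2⟩ _).symm

set_option maxHeartbeats 800000 in
/-- Exactness of `M~ → N~ → P~`. -/
theorem exact_mapTilde {f : M →ₗ[A] N} {g : N →ₗ[A] P} {n : ℤ} (hf : Shift ℳ 𝒩 f n n) (hg : Shift 𝒩 𝒬 g n n)
    (hgf : g ∘ₗ f = 0)
    (hlift : ∀ i : ℕ, ∀ z ∈ 𝒩 i, g z = 0 → ∃ m ∈ ℳ i, f m = z)
    (hann : ∀ (i : ℕ), ∀ z ∈ 𝒬 i, ∀ (x : ProjectiveSpectrum 𝒜) (v : A), v ∉ x.asHomogeneousIdeal → v • z = 0 →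
      ∃ (d : ℕ) (v' : A), v' ∈ 𝒜 d ∧ v' ∉ x.asHomogeneousIdeal ∧ v' • z = 0)
    (w : mapTilde 𝒜 hf ≫ mapTilde 𝒜 hg = 0) : (ShortComplex.mk _ _ w).Exact := by
  rw [ShortComplex.exact_iff_epi_kernel_lift]
  refine InvGen.epi_of_locally _ fun U t x hx => ?_
  set y := (kernel.ι (mapTilde 𝒜 hg)).app U t with hy
  have hy0 : (mapTilde 𝒜 hg).app U y = 0 :=
    congrArg (fun q : kernel (mapTilde 𝒜 hg) ⟶ GrTilde.tilde 𝒜 𝒬 n => q.app U t) (kernel.condition (mapTilde 𝒜 hg))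
  obtain ⟨e, i, a, b, he, hae, hbi, hn, hax, hle, hw⟩ := exists_frac_nhd 𝒜 𝒩 y ⟨x, hx⟩
  have h0 : fr 𝒜 x (g b) a hax = 0 := by
    rw [← mapLoc_fr 𝒜 g x b hax, ← hw ⟨x, hx⟩ hax]
    exact congrArg (fun s => pt 𝒜 𝒬 s ⟨x, hx⟩) hy0
  obtain ⟨v, hv, hvb⟩ := (fr_eq_zero_iff 𝒜 x hax).mp h0
  have hgb : g b ∈ 𝒬 i ∨ g b = 0 := by
    rcases hg i e hn b hbi with h | ⟨i', hi', h⟩
    · exact Or.inr h
    · obtain rfl : i' = i := by omega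
      exact Or.inl h
  obtain ⟨d, v', hvd, hvx, hvz⟩ : ∃ (d : ℕ) (v' : A), v' ∈ 𝒜 d ∧ v' ∉ x.asHomogeneousIdeal ∧ v' • g b = 0 := by
    rcases hgb with h | h
    · exact hann i _ h x v hv hvb
    · exact ⟨0, 1, SetLike.GradedOne.one_mem, fun h1 => x.isPrime.ne_top ((Ideal.eq_top_iff_one _).mpr h1),
        by rw [h, smul_zero]⟩
  obtain ⟨m, hm, hfm⟩ := hlift (d + i) (v' • b) (smul_mem_graded 𝒜 𝒩 hvd hbi) (by rw [map_smul, hvz])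
  have hVle : ProjectiveSpectrum.basicOpen 𝒜 (v' * a) ≤ U := fun z hz => hle
    ((ProjectiveSpectrum.mem_basicOpen 𝒜 a z).mpr (right_not_mem 𝒜 ((ProjectiveSpectrum.mem_basicOpen 𝒜 _ z).mp hz)))
  let s := fracSect 𝒜 ℳ n hm (SetLike.mul_mem_graded hvd hae) (by push_cast; omega) _
    fun z : (ProjectiveSpectrum.basicOpen 𝒜 (v' * a) : Opens (ProjectiveSpectrum.top 𝒜)) =>
      (ProjectiveSpectrum.mem_basicOpen 𝒜 _ z.1).mp z.2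
  refine ⟨_, hVle, (ProjectiveSpectrum.mem_basicOpen 𝒜 _ x).mpr (not_mem_mul 𝒜 hvx hax), s, ?_⟩
  refine Groth.Agent.QC.app_injective_of_mono (kernel.ι (mapTilde 𝒜 hg)) _ ?_
  refine (congrArg (fun q : GrTilde.tilde 𝒜 ℳ n ⟶ GrTilde.tilde 𝒜 𝒩 n => q.app _ s)
    (kernel.lift_ι (mapTilde 𝒜 hg) (mapTilde 𝒜 hf) w)).trans ?_
  rw [← Groth.Agent.QC.app_res]
  refine pt_ext 𝒜 _ fun z => ?_
  rw [pt_mapTilde]
  refine (mapLoc_fr 𝒜 f z.1 m _).trans ?_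
  refine Eq.trans ?_ (hw ⟨z.1, hVle z.2⟩ (right_not_mem 𝒜 ((ProjectiveSpectrum.mem_basicOpen 𝒜 _ z.1).mp z.2))).symm
  rw [hfm]
  exact fr_congr 𝒜 z.1 _ _ (by rw [smul_smul, mul_comm])

end GrT
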