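import Groth.Agent.GrT.Basic
import Groth.Agent.ProjLib.ClosedSub

/-!
Sections of `GrTilde.tilde` over `D₊(f)`.
-/

set_option autoImplicit false
set_option backward.isDefEq.respectTransparency false

universe u

open CategoryTheory DirectSum TopologicalSpace AlgebraicGeometry Opposite

noncomputable section

namespace GrT

variable {R A : Type u} [CommRing R] [CommRing A] [Algebra R A] (𝒜 : ℕ → Submodule R A)
  [GradedAlgebra 𝒜]
variable {M : Type u} [AddCommGroup M] [Module R M] [Module A M] (ℳ : ℕ → Submodule R M)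
variable [DirectSum.Decomposition ℳ] [SetLike.GradedSMul 𝒜 ℳ]

/-- Clearing the obstruction to gluing fractions. -/
lemma cross_eq_zero {z w : M} {g h : A} {N : ℕ} (e : (g * h) ^ N • (g • z - h • w) = 0) :
    g ^ (N + 1) • h ^ N • z = h ^ (N + 1) • g ^ N • w := by
  rw [smul_sub, sub_eq_zero] at e
  simp only [smul_smul] at e ⊢
  calc (g ^ (N + 1) * h ^ N) • z = ((g * h) ^ N * g) • z := by congr 1; ring
    _ = ((g * h) ^ N * h) • w := e
    _ = (h ^ (N + 1) * g ^ N) • w := by congr 1; ring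

/-- Gluing: finitely many compatible fractions come from one fraction over `f`. -/
lemma exists_common_frac {ι : Type*} [Fintype ι] (n : ℤ) {d : ℕ} (hd : 0 < d) {f : A}
    (hf : f ∈ 𝒜 d) (e i : ι → ℕ) (g : ι → A) (a : ι → M) (hg : ∀ t, g t ∈ 𝒜 (e t))
    (ha : ∀ t, a t ∈ ℳ (i t)) (hn : ∀ t, (i t : ℤ) = e t + n)
    (hcover : ∀ x : ProjectiveSpectrum 𝒜, f ∉ x.asHomogeneousIdeal →
      ∃ t, g t ∉ x.asHomogeneousIdeal)
    (hagree : ∀ s t, g t • a s = g s • a t) :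
    ∃ (k j : ℕ) (m : M), (j : ℤ) = k * d + n ∧ m ∈ ℳ j ∧ ∀ t, g t • m = f ^ k • a t := by
  classical
  obtain ⟨K, hK⟩ := mem_radical_of_forall 𝒜
    (Ideal.homogeneous_span 𝒜 (Set.range g) (by rintro _ ⟨t, rfl⟩; exact ⟨e t, hg t⟩)) hd hf
    fun x hx hle => by
      obtain ⟨t, ht⟩ := hcover x hx
      exact ht (hle (Ideal.subset_span ⟨t, rfl⟩))
  let k := K + n.natAbs + Finset.univ.sup e
  have hk : f ^ k ∈ Ideal.span (Set.range g) := by
    rw [show k = n.natAbs + Finset.univ.sup e + K by omega, pow_add]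
    exact Ideal.mul_mem_left _ _ hK
  obtain ⟨b, hb⟩ := Submodule.mem_span_range_iff_exists_fun A |>.mp hk
  have hkd : k ≤ k * d := Nat.le_mul_of_pos_right _ hd
  have hsum : f ^ k = ∑ t, cmp 𝒜 (b t) (k * d - e t) * g t := by
    have h1 := congrArg (GradedRing.proj 𝒜 (k * d)) hb
    simp only [map_sum, GradedRing.proj_apply, smul_eq_mul,
      decompose_of_mem_same 𝒜 (SetLike.pow_mem_graded k hf)] at h1
    rw [decompose_of_mem_same 𝒜 (show f ^ k ∈ 𝒜 (k * d) from SetLike.pow_mem_graded k hf)] at h1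
    rw [← h1]
    refine Finset.sum_congr rfl fun t _ => ?_
    exact coe_decompose_mul_of_right_mem_of_le 𝒜 (hg t)
      (((Finset.le_sup (Finset.mem_univ t)).trans (Nat.le_add_left _ _)).trans hkd)
  refine ⟨k, ((k * d : ℕ) + n).toNat, ∑ t, cmp 𝒜 (b t) (k * d - e t) • a t, ?_, ?_, fun s => ?_⟩
  · have : (n.natAbs : ℤ) ≤ (k * d : ℕ) := by exact_mod_cast le_trans (by omega) hkd
    push_cast at this ⊢
    omega
  · refine Submodule.sum_mem _ fun t _ => ?_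
    have h1 : e t ≤ k * d := ((Finset.le_sup (Finset.mem_univ t)).trans (Nat.le_add_left _ _)).trans hkd
    have h2 := hn t
    have e1 : k * d - e t + i t = ((k * d : ℕ) + n).toNat := by omega
    exact e1 ▸ smul_mem_graded 𝒜 ℳ (cmp_mem 𝒜 _ _) (ha t)
  · rw [hsum, Finset.smul_sum, Finset.sum_smul]
    refine Finset.sum_congr rfl fun t _ => ?_
    rw [smul_comm, hagree, smul_smul]

/-- A section on `D₊(f)` is one fraction `m / f ^ k`. -/
theorem exists_frac_basicOpen (n : ℤ) {d : ℕ} (hd : 0 < d) {f : A} (hf : f ∈ 𝒜 d)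
    (s : GrTilde.sect 𝒜 ℳ n (op (ProjectiveSpectrum.basicOpen 𝒜 f))) :
    ∃ (k i : ℕ) (m : M), (i : ℤ) = k * d + n ∧ m ∈ ℳ i ∧
      ∀ (x : ProjectiveSpectrum.basicOpen 𝒜 f) (hx : f ^ k ∉ x.1.asHomogeneousIdeal),
        (s.1 x).1 = fr 𝒜 x.1 m (f ^ k) hx := by
  classical
  choose e i g a he hg ha hn hgx hgU hs using fun x => exists_frac_nhd 𝒜 ℳ s x
  obtain ⟨F, hF⟩ := (ProjLib.isAffineOpen_basicOpen 𝒜 hf hd).isCompact.elim_finite_subcover
    (fun x => (ProjectiveSpectrum.basicOpen 𝒜 (g x) : Set (ProjectiveSpectrum 𝒜)))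
    (fun x => (ProjectiveSpectrum.basicOpen 𝒜 (g x)).2)
    (fun y hy => Set.mem_iUnion.mpr
      ⟨⟨y, hy⟩, (ProjectiveSpectrum.mem_basicOpen 𝒜 _ y).mpr (hgx ⟨y, hy⟩)⟩)
  have hN : ∀ x y, ∃ N : ℕ, (g y * g x) ^ N • (g y • a x - g x • a y) = 0 := fun x y => by
    have hz : g y • a x - g x • a y ∈ ℳ (e y + i x) := by
      refine sub_mem (smul_mem_graded 𝒜 ℳ (hg y) (ha x)) ?_
      have h1 := hn x; have h2 := hn y
      have e1 : e x + i y = e y + i x := by omega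
      exact e1 ▸ smul_mem_graded 𝒜 ℳ (hg x) (ha y)
    refine exists_pow_smul_eq_zero 𝒜 ℳ hz (Nat.add_pos_left (he y) _)
      (SetLike.mul_mem_graded (hg y) (hg x)) fun p hp => ?_
    have hgxp := right_not_mem 𝒜 hp
    have hgyp := left_not_mem 𝒜 hp
    let q : ProjectiveSpectrum.basicOpen 𝒜 f :=
      ⟨p, hgU x ((ProjectiveSpectrum.mem_basicOpen 𝒜 _ p).mpr hgxp)⟩
    obtain ⟨u, hu, hu0⟩ := (fr_eq_iff 𝒜 p hgxp hgyp).mp ((hs x q hgxp).symm.trans (hs y q hgyp))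
    exact ⟨u, hu, hu0⟩
  choose N hN using hN
  let N0 := (F ×ˢ F).sup fun p => N p.1 p.2
  let ι := {x // x ∈ F}
  have hagree : ∀ x y : ι, g y.1 ^ (N0 + 1) • g x.1 ^ N0 • a x.1 =
      g x.1 ^ (N0 + 1) • g y.1 ^ N0 • a y.1 := fun x y => by
    refine cross_eq_zero ?_
    have hle : N x.1 y.1 ≤ N0 :=
      Finset.le_sup (f := fun p => N p.1 p.2) (Finset.mk_mem_product x.2 y.2)
    rw [show N0 = (N0 - N x.1 y.1) + N x.1 y.1 by omega, pow_add, mul_smul, hN, smul_zero]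
  obtain ⟨k, j, m, hj, hm, hgm⟩ := exists_common_frac 𝒜 ℳ (ι := ι) n hd hf
    (fun x => (N0 + 1) * e x.1) (fun x => N0 * e x.1 + i x.1) (fun x => g x.1 ^ (N0 + 1))
    (fun x => g x.1 ^ N0 • a x.1) (fun x => SetLike.pow_mem_graded _ (hg x.1))
    (fun x => smul_mem_graded 𝒜 ℳ (SetLike.pow_mem_graded _ (hg x.1)) (ha x.1))
    (fun x => by have := hn x.1; push_cast; linarith)
    (fun p hp => by
      obtain ⟨x, hxF, hx⟩ := Set.mem_iUnion₂.mp (hF ((ProjectiveSpectrum.mem_basicOpen 𝒜 f p).mpr hp))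
      exact ⟨⟨x, hxF⟩, not_mem_pow 𝒜 ((ProjectiveSpectrum.mem_basicOpen 𝒜 _ p).mp hx) _⟩)
    hagree
  refine ⟨k, j, m, hj, hm, fun y hy => ?_⟩
  obtain ⟨x, hxF, hx⟩ := Set.mem_iUnion₂.mp (hF y.2)
  have hxy := (ProjectiveSpectrum.mem_basicOpen 𝒜 _ y.1).mp hx
  rw [hs x y hxy]
  refine (fr_congr 𝒜 y.1 hxy (not_mem_pow 𝒜 hxy (N0 + 1)) (b := g x ^ N0 • a x) ?_).trans
    (fr_congr 𝒜 y.1 (not_mem_pow 𝒜 hxy (N0 + 1)) hy (hgm ⟨x, hxF⟩).symm)
  rw [smul_smul, ← pow_succ']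

end GrT
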