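import Mathlib
import Groth.Prelude.Def_GrMod2

/-!
Homogeneous annihilators and fractions in graded modules (for the sheaves `GrTilde.tilde`).
-/

set_option autoImplicit false

universe u

open DirectSum TopologicalSpace AlgebraicGeometry

noncomputable section

namespace GrT

variable {R A : Type u} [CommRing R] [CommRing A] [Algebra R A] (𝒜 : ℕ → Submodule R A)
  [GradedAlgebra 𝒜]
variable {M : Type u} [AddCommGroup M] [Module R M] [Module A M] (ℳ : ℕ → Submodule R M)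

/-- Homogeneous component in `A`. -/
abbrev cmp (a : A) (d : ℕ) : A := (decompose 𝒜 a d : A)

lemma cmp_mem (a : A) (d : ℕ) : cmp 𝒜 a d ∈ 𝒜 d := (decompose 𝒜 a d).2

lemma exists_cmp_not_mem {x : ProjectiveSpectrum 𝒜} {u : A} (hu : u ∉ x.asHomogeneousIdeal) :
    ∃ d, cmp 𝒜 u d ∉ x.asHomogeneousIdeal := by
  classical
  by_contra h
  push Not at h
  exact hu (by
    rw [← sum_support_decompose 𝒜 u]
    exact Ideal.sum_mem x.asHomogeneousIdeal.toIdeal fun d _ => h d)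

lemma exists_pos_homog (x : ProjectiveSpectrum 𝒜) :
    ∃ (d : ℕ) (f : A), 0 < d ∧ f ∈ 𝒜 d ∧ f ∉ x.asHomogeneousIdeal := by
  by_contra h
  push Not at h
  exact x.not_irrelevant_le ((HomogeneousIdeal.irrelevant_le 𝒜).mpr fun d hd a ha => h d a hd ha)

lemma not_mem_mul {x : ProjectiveSpectrum 𝒜} {a b : A} (ha : a ∉ x.asHomogeneousIdeal)
    (hb : b ∉ x.asHomogeneousIdeal) : a * b ∉ x.asHomogeneousIdeal := fun h =>
  (x.isPrime.mem_or_mem h).elim ha hb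

lemma not_mem_pow {x : ProjectiveSpectrum 𝒜} {a : A} (ha : a ∉ x.asHomogeneousIdeal) (k : ℕ) :
    a ^ k ∉ x.asHomogeneousIdeal := fun h => ha (x.isPrime.mem_of_pow_mem k h)

lemma left_not_mem {x : ProjectiveSpectrum 𝒜} {a b : A} (h : a * b ∉ x.asHomogeneousIdeal) :
    a ∉ x.asHomogeneousIdeal := fun ha => h (Ideal.mul_mem_right _ _ ha)

lemma right_not_mem {x : ProjectiveSpectrum 𝒜} {a b : A} (h : a * b ∉ x.asHomogeneousIdeal) :
    b ∉ x.asHomogeneousIdeal := fun hb => h (Ideal.mul_mem_left _ _ hb)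

lemma of_pow_not_mem {x : ProjectiveSpectrum 𝒜} {a : A} {k : ℕ} (hk : 0 < k)
    (h : a ^ k ∉ x.asHomogeneousIdeal) : a ∉ x.asHomogeneousIdeal := fun ha =>
  h (Ideal.pow_mem_of_mem _ ha k hk)

/-- A basis of homogeneous basic opens of positive degree. -/
lemma exists_homog_nhd {U : Opens (ProjectiveSpectrum.top 𝒜)} {x : ProjectiveSpectrum 𝒜}
    (hx : x ∈ U) : ∃ (d : ℕ) (g : A), 0 < d ∧ g ∈ 𝒜 d ∧ g ∉ x.asHomogeneousIdeal ∧
      ProjectiveSpectrum.basicOpen 𝒜 g ≤ U := by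
  obtain ⟨_, ⟨r, rfl⟩, hxr, hrU⟩ :=
    (ProjectiveSpectrum.isTopologicalBasis_basic_opens 𝒜).exists_subset_of_mem_open hx U.2
  obtain ⟨i, hi⟩ := exists_cmp_not_mem 𝒜 ((ProjectiveSpectrum.mem_basicOpen 𝒜 r x).mp hxr)
  obtain ⟨d, f, hd, hf, hfx⟩ := exists_pos_homog 𝒜 x
  refine ⟨i + d, cmp 𝒜 r i * f, by omega, SetLike.mul_mem_graded (cmp_mem 𝒜 r i) hf,
    not_mem_mul 𝒜 hi hfx, fun y hy => hrU ?_⟩
  refine (ProjectiveSpectrum.mem_basicOpen 𝒜 r y).mpr fun hr => ?_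
  exact left_not_mem 𝒜 ((ProjectiveSpectrum.mem_basicOpen 𝒜 _ y).mp hy)
    (y.asHomogeneousIdeal.2 i hr)

/-- A homogeneous element of a homogeneous ideal's radical, tested on relevant primes. -/
lemma mem_radical_of_forall {I : Ideal A} (hI : I.IsHomogeneous 𝒜) {h : A} {e : ℕ} (he : 0 < e)
    (hh : h ∈ 𝒜 e)
    (H : ∀ x : ProjectiveSpectrum 𝒜, h ∉ x.asHomogeneousIdeal → ¬ I ≤ x.asHomogeneousIdeal.toIdeal) :
    h ∈ I.radical := by
  rw [Ideal.radical_eq_sInf, Submodule.mem_sInf]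
  rintro (P : Ideal A) ⟨hIP, (hP : P.IsPrime)⟩
  by_contra hhP
  have hcore : h ∉ (P.homogeneousCore 𝒜).toIdeal := fun hc =>
    hhP (Ideal.toIdeal_homogeneousCore_le 𝒜 P hc)
  refine H ⟨P.homogeneousCore 𝒜, hP.homogeneousCore,
    fun hle => hcore (hle (HomogeneousIdeal.mem_irrelevant_of_mem 𝒜 he hh))⟩ hcore ?_
  exact (hI.toIdeal_homogeneousCore_eq_self).ge.trans (Ideal.homogeneousCore_mono 𝒜 hIP)

variable [DirectSum.Decomposition ℳ] [SetLike.GradedSMul 𝒜 ℳ]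

omit [GradedAlgebra 𝒜] [DirectSum.Decomposition ℳ] in
lemma smul_mem_graded {a : A} {d : ℕ} (ha : a ∈ 𝒜 d) {z : M} {k : ℕ} (hz : z ∈ ℳ k) :
    a • z ∈ ℳ (d + k) := SetLike.GradedSMul.smul_mem ha hz

lemma decompose_smul_of_mem (u : A) {z : M} {k : ℕ} (hz : z ∈ ℳ k) (d : ℕ) :
    (decompose ℳ (u • z) (d + k) : M) = cmp 𝒜 u d • z := by
  classical
  induction u using DirectSum.Decomposition.inductionOn 𝒜 with
  | zero => simp [cmp]
  | homogeneous a =>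
    rename_i i
    by_cases h : i = d
    · subst h
      rw [decompose_of_mem_same ℳ (smul_mem_graded 𝒜 ℳ a.2 hz), cmp,
        decompose_of_mem_same 𝒜 a.2]
    · rw [decompose_of_mem_ne ℳ (smul_mem_graded 𝒜 ℳ a.2 hz) (by omega), cmp,
        decompose_of_mem_ne 𝒜 a.2 h, zero_smul]
  | add a b ha hb =>
    simp only [cmp, add_smul, decompose_add, DirectSum.add_apply, Submodule.coe_add] at *
    rw [ha, hb]

lemma cmp_smul_eq_zero {u : A} {z : M} {k : ℕ} (hz : z ∈ ℳ k) (h : u • z = 0) (d : ℕ) :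
    cmp 𝒜 u d • z = 0 := by
  rw [← decompose_smul_of_mem 𝒜 ℳ u hz, h, decompose_zero]; rfl

lemma exists_homog_smul_eq_zero {x : ProjectiveSpectrum 𝒜} {u : A}
    (hu : u ∉ x.asHomogeneousIdeal) {z : M} {k : ℕ} (hz : z ∈ ℳ k) (h : u • z = 0) :
    ∃ (d : ℕ) (c : A), c ∈ 𝒜 d ∧ c ∉ x.asHomogeneousIdeal ∧ c • z = 0 :=
  let ⟨d, hd⟩ := exists_cmp_not_mem 𝒜 hu
  ⟨d, cmp 𝒜 u d, cmp_mem 𝒜 u d, hd, cmp_smul_eq_zero 𝒜 ℳ hz h d⟩

/-- A homogeneous element killed locally on `D₊(h)` is killed by a power of `h`. -/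
lemma exists_pow_smul_eq_zero {z : M} {k : ℕ} (hz : z ∈ ℳ k) {h : A} {e : ℕ} (he : 0 < e)
    (hh : h ∈ 𝒜 e)
    (H : ∀ x : ProjectiveSpectrum 𝒜, h ∉ x.asHomogeneousIdeal →
      ∃ c : A, c ∉ x.asHomogeneousIdeal ∧ c • z = 0) : ∃ N : ℕ, h ^ N • z = 0 := by
  have hI : (LinearMap.ker (LinearMap.toSpanSingleton A M z) : Ideal A).IsHomogeneous 𝒜 :=
    fun i a ha => LinearMap.mem_ker.mpr (cmp_smul_eq_zero 𝒜 ℳ hz (LinearMap.mem_ker.mp ha) i)
  obtain ⟨N, hN⟩ := mem_radical_of_forall 𝒜 hI he hh fun x hx hle => by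
    obtain ⟨c, hc, hcz⟩ := H x hx
    exact hc (hle (LinearMap.mem_ker.mpr hcz))
  exact ⟨N, hN⟩

end GrT
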