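import Groth.Agent.GrT.Alg

/-!
Sections of `GrTilde.tilde`: fractions at points and near points, stalks.
-/

set_option autoImplicit false
set_option backward.isDefEq.respectTransparency false

universe u

open CategoryTheory DirectSum TopologicalSpace AlgebraicGeometry Opposite

noncomputable section

namespace GrT

variable {R A : Type u} [CommRing R] [CommRing A] [Algebra R A] (𝒜 : ℕ → Submodule R A)
  [GradedAlgebra 𝒜]
variable {M : Type u} [AddCommGroup M] [Module R M] [Module A M] (ℳ : ℕ → Submodule R M)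

/-- The fraction `a / g` in `M_x`. -/
abbrev fr (x : ProjectiveSpectrum 𝒜) (a : M) (g : A) (hg : g ∉ x.asHomogeneousIdeal) :
    GrTilde.LocMod 𝒜 (M := M) x :=
  LocalizedModule.mk a ⟨g, hg⟩

omit [Module R M] in
lemma fr_eq_iff (x : ProjectiveSpectrum 𝒜) {a b : M} {g h : A} (hg : g ∉ x.asHomogeneousIdeal)
    (hh : h ∉ x.asHomogeneousIdeal) :
    fr 𝒜 x a g hg = fr 𝒜 x b h hh ↔
      ∃ u : A, u ∉ x.asHomogeneousIdeal ∧ u • (h • a - g • b) = 0 := by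
  rw [LocalizedModule.mk_eq]
  constructor
  · rintro ⟨⟨u, hu⟩, h1⟩
    exact ⟨u, hu, by rw [smul_sub]; exact sub_eq_zero.mpr h1⟩
  · rintro ⟨u, hu, h1⟩
    exact ⟨⟨u, hu⟩, sub_eq_zero.mp (by rwa [smul_sub] at h1)⟩

omit [Module R M] in
lemma fr_congr (x : ProjectiveSpectrum 𝒜) {a b : M} {g h : A} (hg : g ∉ x.asHomogeneousIdeal)
    (hh : h ∉ x.asHomogeneousIdeal) (e : h • a = g • b) : fr 𝒜 x a g hg = fr 𝒜 x b h hh :=
  (fr_eq_iff 𝒜 x hg hh).mpr ⟨1, fun h1 => x.isPrime.ne_top ((Ideal.eq_top_iff_one _).mpr h1),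
    by rw [e, sub_self, smul_zero]⟩

omit [Module R M] in
lemma fr_zero (x : ProjectiveSpectrum 𝒜) {g : A} (hg : g ∉ x.asHomogeneousIdeal) :
    fr 𝒜 x (0 : M) g hg = 0 := LocalizedModule.zero_mk _

omit [Module R M] in
lemma fr_eq_zero_iff (x : ProjectiveSpectrum 𝒜) {a : M} {g : A} (hg : g ∉ x.asHomogeneousIdeal) :
    fr 𝒜 x a g hg = 0 ↔ ∃ u : A, u ∉ x.asHomogeneousIdeal ∧ u • a = 0 := by
  constructor
  · intro h
    rw [← fr_zero 𝒜 x hg, fr_eq_iff] at h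
    obtain ⟨u, hu, h1⟩ := h
    refine ⟨u * g, not_mem_mul 𝒜 hu hg, ?_⟩
    rw [mul_smul]; simpa using h1
  · rintro ⟨u, hu, h1⟩
    rw [← fr_zero 𝒜 x hg, fr_eq_iff]
    exact ⟨u, hu, by rw [smul_zero, sub_zero, smul_comm, h1, smul_zero]⟩

omit [Module R M] in
lemma fr_add (x : ProjectiveSpectrum 𝒜) {a b : M} {g h : A} (hg : g ∉ x.asHomogeneousIdeal)
    (hh : h ∉ x.asHomogeneousIdeal) :
    fr 𝒜 x a g hg + fr 𝒜 x b h hh = fr 𝒜 x (h • a + g • b) (g * h) (not_mem_mul 𝒜 hg hh) :=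
  LocalizedModule.mk_add_mk

variable [DirectSum.Decomposition ℳ] [SetLike.GradedSMul 𝒜 ℳ]

omit [DirectSum.Decomposition ℳ] in
/-- Every element of `tildeAt` is a fraction of homogeneous elements. -/
lemma exists_frac_at (n : ℤ) (x : ProjectiveSpectrum 𝒜) {q : GrTilde.LocMod 𝒜 (M := M) x}
    (hq : q ∈ GrTilde.tildeAt 𝒜 ℳ n x) :
    ∃ (i j : ℕ) (a : M) (g : A) (hg : g ∉ x.asHomogeneousIdeal),
      a ∈ ℳ i ∧ g ∈ 𝒜 j ∧ (i : ℤ) = j + n ∧ q = fr 𝒜 x a g hg := by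
  induction hq using Submodule.span_induction with
  | mem q hq =>
    obtain ⟨i, j, m, s, hs, hn, rfl⟩ := hq
    exact ⟨i, j, m.1, s.1, hs, m.2, s.2, hn, rfl⟩
  | zero =>
    obtain ⟨d, f, hd, hf, hfx⟩ := exists_pos_homog 𝒜 x
    refine ⟨((n.natAbs * d : ℕ) + n).toNat, n.natAbs * d, 0, f ^ n.natAbs, not_mem_pow 𝒜 hfx _,
      zero_mem _, SetLike.pow_mem_graded n.natAbs hf, ?_, (fr_zero 𝒜 x _).symm⟩
    have : n.natAbs ≤ n.natAbs * d := Nat.le_mul_of_pos_right _ hd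
    omega
  | add p q _ _ hp hq =>
    obtain ⟨i, j, a, g, hg, ha, hgj, hn, rfl⟩ := hp
    obtain ⟨i', j', b, h, hh, hb, hhj, hn', rfl⟩ := hq
    refine ⟨j' + i, j + j', h • a + g • b, g * h, not_mem_mul 𝒜 hg hh, add_mem
      (smul_mem_graded 𝒜 ℳ hhj ha) ?_, SetLike.mul_mem_graded hgj hhj, by push_cast; omega,
      fr_add 𝒜 x hg hh⟩
    have e : j + i' = j' + i := by omega
    exact e ▸ smul_mem_graded 𝒜 ℳ hgj hb
  | smul c q _ hq =>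
    obtain ⟨i, j, a, g, hg, ha, hgj, hn, rfl⟩ := hq
    obtain ⟨⟨k, ⟨r, hr⟩, ⟨t, ht⟩, htx⟩, rfl⟩ := HomogeneousLocalization.mk_surjective c
    refine ⟨k + i, k + j, r • a, t * g, not_mem_mul 𝒜 htx hg, smul_mem_graded 𝒜 ℳ hr ha,
      SetLike.mul_mem_graded ht hgj, by push_cast; omega, ?_⟩
    rw [GrTilde.a0_smul_def, HomogeneousLocalization.val_mk, LocalizedModule.mk_smul_mk]
    rfl

omit [DirectSum.Decomposition ℳ] in
/-- Near a point a section is one fraction with denominator cutting out the neighbourhood. -/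
lemma exists_frac_nhd {n : ℤ} {U : (Opens (ProjectiveSpectrum.top 𝒜))ᵒᵖ}
    (s : GrTilde.sect 𝒜 ℳ n U) (x : U.unop) :
    ∃ (e i : ℕ) (g : A) (a : M), 0 < e ∧ g ∈ 𝒜 e ∧ a ∈ ℳ i ∧ (i : ℤ) = e + n ∧
      g ∉ x.1.asHomogeneousIdeal ∧ ProjectiveSpectrum.basicOpen 𝒜 g ≤ U.unop ∧
      ∀ (y : U.unop) (hy : g ∉ y.1.asHomogeneousIdeal), (s.1 y).1 = fr 𝒜 y.1 a g hy := by
  obtain ⟨V, hxV, ι, i, j, m, t, nin, hc, w⟩ := s.2 x
  obtain ⟨d, f, hd, hf, hfx, hfV⟩ := exists_homog_nhd 𝒜 hxV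
  have hval : ∀ (y : U.unop) (hy : f ∉ y.1.asHomogeneousIdeal) (ht : (t : A) ∉ y.1.asHomogeneousIdeal),
      (s.1 y).1 = fr 𝒜 y.1 (m : M) (t : A) ht := fun y hy ht =>
    w ⟨y.1, hfV ((ProjectiveSpectrum.mem_basicOpen 𝒜 f y.1).mpr hy)⟩
  have htf : ∀ (y : ProjectiveSpectrum 𝒜), f ∉ y.asHomogeneousIdeal → (t : A) ∉ y.asHomogeneousIdeal :=
    fun y hy => nin ⟨y, hfV ((ProjectiveSpectrum.mem_basicOpen 𝒜 f y).mpr hy)⟩
  let l := n.natAbs + j + 1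
  have hl : 0 < l := Nat.succ_pos _
  have hld : l ≤ l * d := Nat.le_mul_of_pos_right _ hd
  have hle : ProjectiveSpectrum.basicOpen 𝒜 (f ^ l * t) ≤ U.unop := fun y hy =>
    leOfHom ι (hfV ((ProjectiveSpectrum.mem_basicOpen 𝒜 f y).mpr (of_pow_not_mem 𝒜 hl
      (left_not_mem 𝒜 ((ProjectiveSpectrum.mem_basicOpen 𝒜 _ y).mp hy)))))
  refine ⟨l * d + j, ((l * d + j : ℕ) + n).toNat, f ^ l * t, f ^ l • (m : M), by omega,
    SetLike.mul_mem_graded (SetLike.pow_mem_graded l hf) t.2, ?_, by omega,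
    not_mem_mul 𝒜 (not_mem_pow 𝒜 hfx l) (htf x.1 hfx), hle, fun y hy => ?_⟩
  · rcases hc with hc | hc
    · have e : l * d + i = ((l * d + j : ℕ) + n).toNat := by omega
      exact e ▸ smul_mem_graded 𝒜 ℳ (SetLike.pow_mem_graded l hf) m.2
    · rw [show (m : M) = 0 from hc, smul_zero]; exact zero_mem _
  · have hfy : f ∉ y.1.asHomogeneousIdeal := of_pow_not_mem 𝒜 hl (left_not_mem 𝒜 hy)
    rw [hval y hfy (htf y.1 hfy)]
    exact fr_congr 𝒜 y.1 _ _ (by rw [smul_smul, mul_comm])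

omit [DirectSum.Decomposition ℳ] in
/-- The section given by one fraction. -/
def fracSect (n : ℤ) {i j : ℕ} {a : M} {g : A} (ha : a ∈ ℳ i) (hg : g ∈ 𝒜 j) (hn : (i : ℤ) = j + n)
    (U : Opens (ProjectiveSpectrum.top 𝒜)) (hU : ∀ y : U, g ∉ y.1.asHomogeneousIdeal) :
    GrTilde.sect 𝒜 ℳ n (op U) :=
  ⟨fun y => ⟨fr 𝒜 y.1 a g (hU y),
      Submodule.subset_span ⟨i, j, ⟨a, ha⟩, ⟨g, hg⟩, hU y, hn, rfl⟩⟩,
    fun y => ⟨U, y.2, 𝟙 _, i, j, ⟨a, ha⟩, ⟨g, hg⟩, hU, Or.inl hn, fun _ => rfl⟩⟩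

omit [DirectSum.Decomposition ℳ] in
lemma sect_ext {n : ℤ} {U : (Opens (ProjectiveSpectrum.top 𝒜))ᵒᵖ} {s t : GrTilde.sect 𝒜 ℳ n U}
    (h : ∀ y : U.unop, (s.1 y).1 = (t.1 y).1) : s = t :=
  Subtype.ext (funext fun y => Subtype.ext (h y))

/-- Evaluation identifies the stalk with the module of fractions. -/
theorem stalkToFiber_bijective (n : ℤ) (p : ProjectiveSpectrum 𝒜) :
    Function.Bijective (TopCat.stalkToFiber (GrTilde.isLocFrac 𝒜 ℳ n) p) := by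
  constructor
  · refine TopCat.stalkToFiber_injective _ _ fun U V fU hU fV hV h => ?_
    obtain ⟨e, i, g, a, -, hg, ha, hn, hgp, hgU, hs⟩ :=
      exists_frac_nhd 𝒜 ℳ (U := op U.1) ⟨fU, hU⟩ ⟨p, U.2⟩
    obtain ⟨e', i', g', a', -, hg', ha', hn', hgp', hgV, hs'⟩ :=
      exists_frac_nhd 𝒜 ℳ (U := op V.1) ⟨fV, hV⟩ ⟨p, V.2⟩
    have h1 : fr 𝒜 p a g hgp = fr 𝒜 p a' g' hgp' :=
      (hs ⟨p, U.2⟩ hgp).symm.trans ((congrArg Subtype.val h).trans (hs' ⟨p, V.2⟩ hgp'))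
    obtain ⟨u, hu, hu0⟩ := (fr_eq_iff 𝒜 p hgp hgp').mp h1
    have hz : g' • a - g • a' ∈ ℳ (e' + i) := by
      refine sub_mem (smul_mem_graded 𝒜 ℳ hg' ha) ?_
      have e1 : e + i' = e' + i := by omega
      exact e1 ▸ smul_mem_graded 𝒜 ℳ hg ha'
    obtain ⟨d, c, hc, hcp, hc0⟩ := exists_homog_smul_eq_zero 𝒜 ℳ hu hz hu0
    have hp : p ∈ ProjectiveSpectrum.basicOpen 𝒜 (g * g' * c) :=
      (ProjectiveSpectrum.mem_basicOpen 𝒜 _ p).mpr (not_mem_mul 𝒜 (not_mem_mul 𝒜 hgp hgp') hcp)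
    let W : OpenNhds (X := ProjectiveSpectrum.top 𝒜) p := ⟨ProjectiveSpectrum.basicOpen 𝒜 (g * g' * c), hp⟩
    have hWU : W.1 ≤ U.1 := fun y hy => hgU ((ProjectiveSpectrum.mem_basicOpen 𝒜 g y).mpr
      (left_not_mem 𝒜 (left_not_mem 𝒜 ((ProjectiveSpectrum.mem_basicOpen 𝒜 _ y).mp hy))))
    have hWV : W.1 ≤ V.1 := fun y hy => hgV ((ProjectiveSpectrum.mem_basicOpen 𝒜 g' y).mpr
      (right_not_mem 𝒜 (left_not_mem 𝒜 ((ProjectiveSpectrum.mem_basicOpen 𝒜 _ y).mp hy))))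
    refine ⟨W, homOfLE hWU, homOfLE hWV, fun w => Subtype.ext ?_⟩
    have hw := (ProjectiveSpectrum.mem_basicOpen 𝒜 _ w.1).mp w.2
    exact (hs ⟨w.1, hWU w.2⟩ (left_not_mem 𝒜 (left_not_mem 𝒜 hw))).trans
      (((fr_eq_iff 𝒜 w.1 _ _).mpr ⟨c, right_not_mem 𝒜 hw, hc0⟩).trans
        (hs' ⟨w.1, hWV w.2⟩ (right_not_mem 𝒜 (left_not_mem 𝒜 hw))).symm)
  · refine TopCat.stalkToFiber_surjective _ _ fun t => ?_
    obtain ⟨i, j, a, g, hg, ha, hgj, hn, ht⟩ := exists_frac_at 𝒜 ℳ n p t.2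
    let s := fracSect 𝒜 ℳ n ha hgj hn (ProjectiveSpectrum.basicOpen 𝒜 g)
      fun y => (ProjectiveSpectrum.mem_basicOpen 𝒜 g y.1).mp y.2
    exact ⟨⟨ProjectiveSpectrum.basicOpen 𝒜 g, (ProjectiveSpectrum.mem_basicOpen 𝒜 g p).mpr hg⟩,
      s.1, s.2, Subtype.ext ht.symm⟩

end GrT
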