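import Groth.Agent.GrT.QuotMod
import Groth.Agent.GrT.TildeMap
import Groth.Agent.GrT.TwistEpi
import Groth.Agent.W7Proj.Proj

/-!
A quotient of a tilde of a finite graded module by a sub-sheaf of relations is a tilde.
-/

set_option autoImplicit false
set_option backward.isDefEq.respectTransparency false
set_option backward.isDefEq.respectTransparency.types false

universe u

open CategoryTheory CategoryTheory.Limits DirectSum TopologicalSpace AlgebraicGeometry Opposite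
open Groth.Agent.QC (res resO res_res res_smul app_res resO_self res_self)

noncomputable section

namespace GrT

variable {R A : Type u} [CommRing R] [CommRing A] [Algebra R A] (𝒜 : ℕ → Submodule R A) [GradedAlgebra 𝒜]
variable {M : Type u} [AddCommGroup M] [Module R M] [Module A M] [IsScalarTower R A M]
  (ℳ : ℕ → Submodule R M) [DirectSum.Decomposition ℳ] [SetLike.GradedSMul 𝒜 ℳ]
variable {E : ℕ} {ι : Type u} (f : ι → A) (hf : ∀ i, f i ∈ 𝒜 E)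
variable {F : (Proj 𝒜).Modules} (e : GrTilde.tilde 𝒜 ℳ 0 ⟶ F)

/-- `m / f i ^ l` on `D(f i)`. -/
def chartSec (i : ι) (l : ℕ) {m : M} (hm : m ∈ ℳ (l * E)) :
    Γ(GrTilde.tilde 𝒜 ℳ 0, Proj.basicOpen 𝒜 (f i)) :=
  fracSect 𝒜 ℳ 0 hm (show f i ^ l ∈ 𝒜 (l * E) by simpa using SetLike.pow_mem_graded l (hf i)) (by simp) _
    fun y => not_mem_pow 𝒜 ((ProjectiveSpectrum.mem_basicOpen 𝒜 (f i) y.1).mp y.2) l

/-- The homogeneous relations of `e`. -/
def relSet : Set M :=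
  {m | ∃ (l : ℕ) (hm : m ∈ ℳ (l * E)), ∀ i, e.app _ (chartSec 𝒜 ℳ f hf i l hm) = 0}

/-- The relation module. -/
def relMod : Submodule A M := Submodule.span A (relSet 𝒜 ℳ f hf e)

include hf in
theorem relMod_homog [IsNoetherianRing A] [Module.Finite A M] :
    ∃ (κ : Type u) (_ : Fintype κ) (d : κ → ℕ) (g : κ → M), (∀ p, g p ∈ ℳ (d p)) ∧
      (∀ p, g p ∈ relSet 𝒜 ℳ f hf e) ∧ relMod 𝒜 ℳ f hf e = Submodule.span A (Set.range g) := by
  obtain ⟨T, hT, hspan⟩ := (Submodule.fg_span_iff_fg_span_finset_subset (relSet 𝒜 ℳ f hf e)).mp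
    (IsNoetherian.noetherian (relMod 𝒜 ℳ f hf e))
  choose l hl _ using fun p : T => hT p.2
  refine ⟨T, inferInstance, fun p => l p * E, fun p => p.1, hl, fun p => hT p.2, ?_⟩
  rw [Subtype.range_coe_subtype]
  exact hspan

variable (hcov : ∀ x : ProjectiveSpectrum 𝒜, ∃ i, f i ∉ x.asHomogeneousIdeal)

include hcov in
/-- A section of `M~` dying in `(M ⧸ relations)~` dies in `F`. -/
theorem app_eq_zero_of_mkQ [IsNoetherianRing A] [Module.Finite A M] (hE : 0 < E) {U : (Proj 𝒜).Opens}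
    (s : Γ(GrTilde.tilde 𝒜 ℳ 0, U))
    (hs : ∀ y : U, mapLoc 𝒜 (relMod 𝒜 ℳ f hf e).mkQ y.1 (pt 𝒜 ℳ s y) = 0) : e.app U s = 0 := by
  classical
  refine Groth.Agent.QC.section_eq_of_locally fun y hy => ?_
  obtain ⟨e0, i0, g, a, he0, hg, ha, hn, hgy, hgU, hw⟩ := exists_frac_nhd 𝒜 ℳ s ⟨y, hy⟩
  obtain rfl : e0 = i0 := by omega
  obtain ⟨i, hiy⟩ := hcov y
  have h0 := hs ⟨y, hy⟩
  rw [show pt 𝒜 ℳ s ⟨y, hy⟩ = _ from hw ⟨y, hy⟩ hgy, mapLoc_fr 𝒜, fr_eq_zero_iff] at h0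
  obtain ⟨u, hu, hu0⟩ := h0
  letI := quotDecomposition ℳ (relMod 𝒜 ℳ f hf e) (fun z hz k => by
      obtain ⟨κ, hκ, dd, gg, hgg, -, hspan⟩ := relMod_homog 𝒜 ℳ f hf e
      rw [hspan] at hz ⊢
      exact component_mem_span 𝒜 ℳ dd gg hgg hz k)
  obtain ⟨d, c, hc, hcy, hc0⟩ := exists_homog_smul_eq_zero 𝒜
    (quotPiece ℳ (relMod 𝒜 ℳ f hf e)) hu (mkQ_mem_quotPiece ℳ _ ha) hu0
  obtain ⟨κ, hκ, dd, gg, hgg, hrel, hspan⟩ := relMod_homog 𝒜 ℳ f hf e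
  have hcN : c • a ∈ relMod 𝒜 ℳ f hf e :=
    (Submodule.Quotient.mk_eq_zero _).mp (by rw [← hc0]; rfl)
  rw [hspan] at hcN
  obtain ⟨b, hb⟩ := (Submodule.mem_span_range_iff_exists_fun A).mp hcN
  choose l hl hvan using hrel
  have hca : c • a ∈ ℳ (d + e0) := smul_mem_graded 𝒜 ℳ hc ha
  let β : κ → A := fun p => if l p * E ≤ d + e0 then cmp 𝒜 (b p) (d + e0 - l p * E) else 0
  have hsum : ∑ p, β p • gg p = c • a := by
    conv_rhs => rw [← decompose_of_mem_same ℳ hca]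
    rw [← hb, decompose_sum, DFinsupp.finsetSum_apply, AddSubmonoidClass.coe_finsetSum]
    refine Finset.sum_congr rfl fun p _ => ?_
    simp only [β]
    by_cases hp : l p * E ≤ d + e0
    · rw [if_pos hp]
      have := decompose_smul_of_mem 𝒜 ℳ (b p) (hl p) (d + e0 - l p * E)
      rw [Nat.sub_add_cancel hp] at this
      exact this.symm
    · rw [if_neg hp, zero_smul, decompose_smul_of_lt 𝒜 ℳ (b p) (hl p) (by omega)]
  let h := f i * (c * g)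
  have hh : h ∈ 𝒜 (E + (d + e0)) := SetLike.mul_mem_graded (hf i) (SetLike.mul_mem_graded hc hg)
  have hα : ∀ p, β p * f i ^ (l p + 1) * 1 ∈ 𝒜 (1 • (E + (d + e0))) := fun p => by
    simp only [β]
    by_cases hp : l p * E ≤ d + e0
    · rw [if_pos hp, mul_one, one_smul]
      have := SetLike.mul_mem_graded (cmp_mem 𝒜 (b p) (d + e0 - l p * E))
        (SetLike.pow_mem_graded (l p + 1) (hf i))
      rwa [show d + e0 - l p * E + (l p + 1) • E = E + (d + e0) by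
        rw [smul_eq_mul, add_mul, one_mul]; omega] at this
    · rw [if_neg hp, zero_mul, zero_mul]; exact zero_mem _
  have hhi : Proj.basicOpen 𝒜 h ≤ Proj.basicOpen 𝒜 (f i) := fun z hz =>
    (ProjectiveSpectrum.mem_basicOpen 𝒜 _ z).mpr
      (left_not_mem 𝒜 ((ProjectiveSpectrum.mem_basicOpen 𝒜 h z).mp hz))
  have hhU : Proj.basicOpen 𝒜 h ≤ U := fun z hz => hgU ((ProjectiveSpectrum.mem_basicOpen 𝒜 _ z).mpr
    (right_not_mem 𝒜 (right_not_mem 𝒜 ((ProjectiveSpectrum.mem_basicOpen 𝒜 h z).mp hz))))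
  refine ⟨Proj.basicOpen 𝒜 h, hhU, (ProjectiveSpectrum.mem_basicOpen 𝒜 h y).mpr
    (not_mem_mul 𝒜 hiy (not_mem_mul 𝒜 hcy hgy)), ?_⟩
  have key : res (GrTilde.tilde 𝒜 ℳ 0) hhU s = ∑ p,
      resO (Proj 𝒜) le_rfl (away 𝒜 hh 1 (hα p)) •
        res (GrTilde.tilde 𝒜 ℳ 0) hhi (chartSec 𝒜 ℳ f hf i (l p) (hl p)) := by
    refine pt_ext 𝒜 ℳ fun z => ?_
    have hz : h ∉ z.1.asHomogeneousIdeal := (ProjectiveSpectrum.mem_basicOpen 𝒜 h z.1).mp z.2
    have hcg := right_not_mem 𝒜 hz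
    rw [pt_sum, pt_res]
    refine (hw ⟨z.1, hhU z.2⟩ (right_not_mem 𝒜 hcg)).trans ?_
    refine (fr_congr 𝒜 z.1 _ hcg (b := c • a) ?_).trans ?_
    · rw [smul_smul, mul_comm c g]
    rw [← hsum, ← fr_sum]
    refine Finset.sum_congr rfl fun p _ => ?_
    refine (fr_congr 𝒜 z.1 hcg (not_mem_mul 𝒜 (not_mem_pow 𝒜 hz 1)
      (not_mem_pow 𝒜 (left_not_mem 𝒜 hz) (l p))) ?_).trans
      (pt_away_smul 𝒜 ℳ hh (hα p) le_rfl _ z (b := gg p) (g := f i ^ l p)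
        (hg := not_mem_pow 𝒜 (left_not_mem 𝒜 hz) (l p)) rfl _).symm
    simp only [h, smul_smul]
    congr 1
    ring
  rw [map_zero, app_res, key, map_sum]
  refine Finset.sum_eq_zero fun p _ => ?_
  rw [Scheme.Modules.Hom.app_smul, ← app_res, hvan p i, map_zero, smul_zero]

variable [Finite ι]

include hcov in
/-- A section of `M~` dying in `F` dies in `(M ⧸ relations)~`. -/
theorem mapLoc_eq_zero_of_app (hF : Coh.IsQCoh F) (hE : 0 < E) {U : (Proj 𝒜).Opens}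
    (s : Γ(GrTilde.tilde 𝒜 ℳ 0, U)) (hs : e.app U s = 0) (y : U) :
    mapLoc 𝒜 (relMod 𝒜 ℳ f hf e).mkQ y.1 (pt 𝒜 ℳ s y) = 0 := by
  classical
  haveI := Fintype.ofFinite ι
  haveI : F.IsQuasicoherent := hF
  have haff : ∀ j, IsAffineOpen (Proj.basicOpen 𝒜 (f j)) := fun j =>
    ProjLib.isAffineOpen_basicOpen 𝒜 (hf j) hE
  obtain ⟨e0, i0, g, a, he0, hg, ha, hn, hgy, hgU, hw⟩ := exists_frac_nhd 𝒜 ℳ s y
  obtain rfl : e0 = i0 := by omega
  obtain ⟨i, hiy⟩ := hcov y.1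
  have hgE : g ^ E ∈ 𝒜 (e0 • E) := by
    rw [smul_eq_mul, mul_comm]; simpa using SetLike.pow_mem_graded E hg
  let q : Γ(Proj 𝒜, Proj.basicOpen 𝒜 (f i)) := away 𝒜 (hf i) e0 hgE
  have hD := basicOpen_away 𝒜 (hf i) hE he0 hgE
  let m := g ^ (E - 1) • a
  have hm : m ∈ ℳ (e0 * E) := by
    have := smul_mem_graded 𝒜 ℳ (SetLike.pow_mem_graded (E - 1) hg) ha
    rwa [show (E - 1) • e0 + e0 = e0 * E by
      rw [smul_eq_mul, ← Nat.succ_mul, Nat.succ_eq_add_one, Nat.sub_add_cancel hE, mul_comm]] at this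
  let σ := chartSec 𝒜 ℳ f hf i e0 hm
  have hg' : ∀ z : (Proj 𝒜).basicOpen q, g ∉ z.1.asHomogeneousIdeal := fun z => of_pow_not_mem 𝒜 hE
    (right_not_mem 𝒜 ((ProjectiveSpectrum.mem_basicOpen 𝒜 _ z.1).mp (hD.le z.2)))
  have hqU : (Proj 𝒜).basicOpen q ≤ U := fun z hz =>
    hgU ((ProjectiveSpectrum.mem_basicOpen 𝒜 _ z).mpr (hg' ⟨z, hz⟩))
  have hσ : res _ ((Proj 𝒜).basicOpen_le q) (e.app _ σ) = 0 := by
    have : res (GrTilde.tilde 𝒜 ℳ 0) ((Proj 𝒜).basicOpen_le q) σ =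
        resO (Proj 𝒜) ((Proj 𝒜).basicOpen_le q) q • res (GrTilde.tilde 𝒜 ℳ 0) hqU s := by
      refine pt_ext 𝒜 ℳ fun z => ?_
      have hfz : f i ∉ z.1.asHomogeneousIdeal :=
        (ProjectiveSpectrum.mem_basicOpen 𝒜 _ z.1).mp ((Proj 𝒜).basicOpen_le q z.2)
      refine Eq.trans ?_ (pt_away_smul 𝒜 ℳ (hf i) hgE ((Proj 𝒜).basicOpen_le q) _ z
        (hg := hg' z) (hw ⟨z.1, hqU z.2⟩ (hg' z))
        (not_mem_mul 𝒜 (not_mem_pow 𝒜 hfz _) (hg' z))).symm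
      refine fr_congr 𝒜 z.1 (not_mem_pow 𝒜 hfz e0) _ ?_
      simp only [m, smul_smul]
      congr 1
      rw [mul_assoc, ← pow_succ', Nat.sub_add_cancel hE]
    rw [app_res, this, Scheme.Modules.Hom.app_smul, ← app_res, hs, map_zero, smul_zero]
  obtain ⟨N, hN⟩ := (Groth.Agent.QC.isLoc_of_isQCoh (haff i)).exists_pow_smul_eq_zero q _ hσ
  let l := N * e0 + e0
  let m' := (g ^ E) ^ N • m
  have hm' : m' ∈ ℳ (l * E) := by
    have := smul_mem_graded 𝒜 ℳ (SetLike.pow_mem_graded N hgE) hm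
    rwa [show N • (e0 • E) + e0 * E = l * E by simp [l, smul_eq_mul, add_mul, mul_assoc]] at this
  have hi0 : e.app _ (chartSec 𝒜 ℳ f hf i l hm') = 0 := by
    have hp : (g ^ E) ^ N ∈ 𝒜 ((N * e0) • E) := by
      rw [mul_smul]; exact SetLike.pow_mem_graded N hgE
    have : chartSec 𝒜 ℳ f hf i l hm' = resO (Proj 𝒜) le_rfl (away 𝒜 (hf i) (N * e0) hp) • σ := by
      refine pt_ext 𝒜 ℳ fun z => ?_
      have hfz : f i ∉ z.1.asHomogeneousIdeal := (ProjectiveSpectrum.mem_basicOpen 𝒜 _ z.1).mp z.2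
      refine Eq.trans ?_ (pt_away_smul 𝒜 ℳ (hf i) hp le_rfl σ z (b := m) (g := f i ^ e0)
        (hg := not_mem_pow 𝒜 hfz e0) rfl
        (not_mem_mul 𝒜 (not_mem_pow 𝒜 hfz _) (not_mem_pow 𝒜 hfz _))).symm
      exact fr_congr 𝒜 z.1 (not_mem_pow 𝒜 hfz l) _ (by simp only [m', l, ← pow_add])
    rw [this, Scheme.Modules.Hom.app_smul, resO_self, ← away_pow]
    exact hN
  have hMj : ∀ j, ∃ Mj : ℕ, away 𝒜 (hf j) 1 (show f i ∈ 𝒜 (1 • E) by rw [one_smul]; exact hf i) ^ Mj •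
      e.app _ (chartSec 𝒜 ℳ f hf j l hm') = 0 := fun j => by
    refine (Groth.Agent.QC.isLoc_of_isQCoh (haff j)).exists_pow_smul_eq_zero _ _ ?_
    set qj := away 𝒜 (hf j) 1 (show f i ∈ 𝒜 (1 • E) by rw [one_smul]; exact hf i) with hqj
    have hDj := basicOpen_away 𝒜 (hf j) hE one_pos (show f i ∈ 𝒜 (1 • E) by rw [one_smul]; exact hf i)
    have hle : (Proj 𝒜).basicOpen qj ≤ Proj.basicOpen 𝒜 (f i) := fun z hz =>
      (ProjectiveSpectrum.mem_basicOpen 𝒜 _ z).mpr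
        (right_not_mem 𝒜 ((ProjectiveSpectrum.mem_basicOpen 𝒜 _ z).mp (hDj.le hz)))
    have hp : f i ^ l ∈ 𝒜 (l • E) := SetLike.pow_mem_graded l (hf i)
    have : res (GrTilde.tilde 𝒜 ℳ 0) ((Proj 𝒜).basicOpen_le qj) (chartSec 𝒜 ℳ f hf j l hm') =
        resO (Proj 𝒜) ((Proj 𝒜).basicOpen_le qj) (away 𝒜 (hf j) l hp) •
          res (GrTilde.tilde 𝒜 ℳ 0) hle (chartSec 𝒜 ℳ f hf i l hm') := by
      refine pt_ext 𝒜 ℳ fun z => ?_
      have hfj : f j ∉ z.1.asHomogeneousIdeal :=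
        (ProjectiveSpectrum.mem_basicOpen 𝒜 _ z.1).mp ((Proj 𝒜).basicOpen_le qj z.2)
      have hfi : f i ∉ z.1.asHomogeneousIdeal :=
        (ProjectiveSpectrum.mem_basicOpen 𝒜 _ z.1).mp (hle z.2)
      refine Eq.trans ?_ (pt_away_smul 𝒜 ℳ (hf j) hp ((Proj 𝒜).basicOpen_le qj) _ z (b := m')
        (g := f i ^ l) (hg := not_mem_pow 𝒜 hfi l) rfl
        (not_mem_mul 𝒜 (not_mem_pow 𝒜 hfj _) (not_mem_pow 𝒜 hfi _))).symm
      exact fr_congr 𝒜 z.1 (not_mem_pow 𝒜 hfj l) _ (by simp only [m', smul_smul, mul_assoc])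
    rw [app_res, this, Scheme.Modules.Hom.app_smul, ← app_res, hi0, map_zero, smul_zero]
  choose Mj hMj using hMj
  let B := Finset.univ.sup Mj
  let m'' := f i ^ B • m'
  have hm'' : m'' ∈ ℳ ((B + l) * E) := by
    have := smul_mem_graded 𝒜 ℳ (SetLike.pow_mem_graded B (hf i)) hm'
    rwa [show B • E + l * E = (B + l) * E by simp only [l, smul_eq_mul]; ring] at this
  have hmem : m'' ∈ relMod 𝒜 ℳ f hf e := Submodule.subset_span ⟨B + l, hm'', fun j => by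
    have hp : f i ^ B ∈ 𝒜 ((B * 1) • E) := by
      rw [mul_one]; exact SetLike.pow_mem_graded B (hf i)
    have : chartSec 𝒜 ℳ f hf j (B + l) hm'' =
        resO (Proj 𝒜) le_rfl (away 𝒜 (hf j) (B * 1) hp) • chartSec 𝒜 ℳ f hf j l hm' := by
      refine pt_ext 𝒜 ℳ fun z => ?_
      have hfz : f j ∉ z.1.asHomogeneousIdeal := (ProjectiveSpectrum.mem_basicOpen 𝒜 _ z.1).mp z.2
      refine Eq.trans ?_ (pt_away_smul 𝒜 ℳ (hf j) hp le_rfl _ z (b := m') (g := f j ^ l)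
        (hg := not_mem_pow 𝒜 hfz l) rfl
        (not_mem_mul 𝒜 (not_mem_pow 𝒜 hfz _) (not_mem_pow 𝒜 hfz _))).symm
      exact fr_congr 𝒜 z.1 (not_mem_pow 𝒜 hfz _) _ (by simp only [m'', mul_one, ← pow_add])
    rw [this, Scheme.Modules.Hom.app_smul, resO_self,
      ← away_pow 𝒜 (hf j) (show f i ∈ 𝒜 (1 • E) by rw [one_smul]; exact hf i) B,
      show B = (B - Mj j) + Mj j from (Nat.sub_add_cancel (Finset.le_sup (Finset.mem_univ j))).symm,
      pow_add, mul_smul, hMj j, smul_zero]⟩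
  rw [show pt 𝒜 ℳ s y = _ from hw y hgy, mapLoc_fr 𝒜, fr_eq_zero_iff]
  refine ⟨f i ^ B * ((g ^ E) ^ N * g ^ (E - 1)), not_mem_mul 𝒜 (not_mem_pow 𝒜 hiy _)
    (not_mem_mul 𝒜 (not_mem_pow 𝒜 (not_mem_pow 𝒜 hgy _) _) (not_mem_pow 𝒜 hgy _)), ?_⟩
  rw [← map_smul, mul_smul, mul_smul]
  exact (Submodule.Quotient.mk_eq_zero _).mpr hmem

variable [IsNoetherianRing A] [Module.Finite A M]

include hcov hf in
/-- A quotient of `M~` is the tilde of a quotient of `M`. -/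
theorem exists_tilde_iso (hF : Coh.IsQCoh F) (hE : 0 < E) [Epi e] :
    ∃ (P : Type u) (_ : AddCommGroup P) (_ : Module R P) (_ : Module A P) (_ : IsScalarTower R A P)
      (𝒬 : ℕ → Submodule R P) (_ : DirectSum.Decomposition 𝒬) (_ : SetLike.GradedSMul 𝒜 𝒬),
      Module.Finite A P ∧ Nonempty (GrTilde.tilde 𝒜 𝒬 0 ≅ F) := by
  classical
  let N := relMod 𝒜 ℳ f hf e
  letI := quotDecomposition ℳ N (fun z hz k => by
    obtain ⟨κ, hκ, dd, gg, hgg, -, hspan⟩ := relMod_homog 𝒜 ℳ f hf e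
    rw [show N = _ from hspan] at hz ⊢
    exact component_mem_span 𝒜 ℳ dd gg hgg hz k)
  have hsh : Shift ℳ (quotPiece ℳ N) N.mkQ 0 0 := fun i j h m hm =>
    Or.inr ⟨i, h, mkQ_mem_quotPiece ℳ N hm⟩
  haveI : Epi (mapTilde 𝒜 hsh) := epi_mapTilde 𝒜 hsh fun i z hz => by
    obtain ⟨x, hx, rfl⟩ := hz
    exact ⟨x, hx, rfl⟩
  have h1 : kernel.ι (mapTilde 𝒜 hsh) ≫ e = 0 := by
    refine Scheme.Modules.hom_ext _ _ fun U => ?_
    ext t
    refine app_eq_zero_of_mkQ 𝒜 ℳ f hf e hcov hE ((kernel.ι (mapTilde 𝒜 hsh)).app U t) fun y => ?_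
    rw [← pt_mapTilde 𝒜 hsh]
    exact congrArg (fun φ : kernel (mapTilde 𝒜 hsh) ⟶ GrTilde.tilde 𝒜 (quotPiece ℳ N) 0 =>
      pt 𝒜 (quotPiece ℳ N) (φ.app U t) y) (kernel.condition (mapTilde 𝒜 hsh))
  have h2 : kernel.ι e ≫ mapTilde 𝒜 hsh = 0 := by
    refine Scheme.Modules.hom_ext _ _ fun U => ?_
    ext t
    refine pt_ext 𝒜 _ fun y => (pt_mapTilde 𝒜 hsh _ y).trans ?_
    exact mapLoc_eq_zero_of_app 𝒜 ℳ f hf e hcov hF hE ((kernel.ι e).app U t)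
      (congrArg (fun φ : kernel e ⟶ F => φ.app U t) (kernel.condition e)) y
  let a := Abelian.epiDesc (mapTilde 𝒜 hsh) e h1
  let b := Abelian.epiDesc e (mapTilde 𝒜 hsh) h2
  have ha : mapTilde 𝒜 hsh ≫ a = e := Abelian.comp_epiDesc _ _ _
  have hb : e ≫ b = mapTilde 𝒜 hsh := Abelian.comp_epiDesc _ _ _
  exact ⟨M ⧸ N, inferInstance, inferInstance, inferInstance, inferInstance, quotPiece ℳ N, inferInstance,
    inferInstance, inferInstance, ⟨⟨a, b,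
      (cancel_epi (mapTilde 𝒜 hsh)).1 (by rw [← Category.assoc, ha, hb, Category.comp_id]),
      (cancel_epi e).1 (by rw [← Category.assoc, hb, ha, Category.comp_id])⟩⟩⟩

end GrT
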