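import Groth.Agent.GrT.SubMod
import Groth.Agent.GrT.Vanish

/-!
Graded quotients, and free graded modules with all generators in one degree.
-/

set_option autoImplicit false
set_option backward.isDefEq.respectTransparency false

universe u

open DirectSum

noncomputable section

namespace GrT

variable {R A : Type u} [CommRing R] [CommRing A] [Algebra R A] (𝒜 : ℕ → Submodule R A) [GradedAlgebra 𝒜]

section Quot

variable {M : Type u} [AddCommGroup M] [Module R M] [Module A M] [IsScalarTower R A M]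
  (ℳ : ℕ → Submodule R M) (N : Submodule A M)

/-- The grading of a quotient. -/
def quotPiece (k : ℕ) : Submodule R (M ⧸ N) := (ℳ k).map (N.mkQ.restrictScalars R)

omit [GradedAlgebra 𝒜] in
instance [SetLike.GradedSMul 𝒜 ℳ] : SetLike.GradedSMul 𝒜 (quotPiece ℳ N) :=
  ⟨fun {_ _ a _} ha hm => by
    obtain ⟨x, hx, rfl⟩ := hm
    exact ⟨a • x, smul_mem_graded 𝒜 ℳ ha hx, map_smul N.mkQ a x⟩⟩

lemma mkQ_mem_quotPiece {k : ℕ} {x : M} (hx : x ∈ ℳ k) : N.mkQ x ∈ quotPiece ℳ N k := ⟨x, hx, rfl⟩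

variable [DirectSum.Decomposition ℳ]

/-- A quotient by a submodule stable under components is graded. -/
@[instance_reducible]
def quotDecomposition (hN : ∀ z ∈ N, ∀ k, (decompose ℳ z k : M) ∈ N) :
    DirectSum.Decomposition (quotPiece ℳ N) := by
  classical
  let T : ∀ k, ℳ k →ₗ[R] quotPiece ℳ N k := fun k =>
    ((N.mkQ.restrictScalars R).comp (ℳ k).subtype).codRestrict (quotPiece ℳ N k) fun x => ⟨x, x.2, rfl⟩
  let B : M →+ ⨁ k, quotPiece ℳ N k :=
    (DirectSum.map fun k => (T k).toAddMonoidHom).comp (DirectSum.decomposeAddEquiv ℳ).toAddMonoidHom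
  have hB : ∀ x k, ((B x k : quotPiece ℳ N k) : M ⧸ N) = Submodule.Quotient.mk (decompose ℳ x k : M) :=
    fun x k => by simp [B, T, DirectSum.map_apply]
  have hcoe : ∀ x, DirectSum.coeAddMonoidHom (quotPiece ℳ N) (B x) = Submodule.Quotient.mk x := by
    intro x
    induction x using DirectSum.Decomposition.inductionOn ℳ with
    | zero => simp
    | @homogeneous j q => simp [B, T, DirectSum.map_of]
    | add a b ha hb => rw [map_add, map_add, ha, hb]; rfl
  have hsurj : Function.Surjective B := fun w => by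
    induction w using DirectSum.induction_on with
    | zero => exact ⟨0, map_zero _⟩
    | of e y =>
      obtain ⟨_, x, hx, rfl⟩ := y
      refine ⟨x, ?_⟩
      simp only [B, AddMonoidHom.comp_apply, AddEquiv.coe_toAddMonoidHom, DirectSum.decomposeAddEquiv_apply,
        DirectSum.decompose_of_mem ℳ hx, DirectSum.map_of]
      rfl
    | add a b ha hb =>
      obtain ⟨x, rfl⟩ := ha
      obtain ⟨y, rfl⟩ := hb
      exact ⟨x + y, map_add _ _ _⟩
  refine DirectSum.IsInternal.chooseDecomposition _ ⟨fun a b h => ?_, fun z => ?_⟩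
  · obtain ⟨x, rfl⟩ := hsurj a
    obtain ⟨y, rfl⟩ := hsurj b
    have h' : Submodule.Quotient.mk x = (Submodule.Quotient.mk y : M ⧸ N) :=
      (hcoe x).symm.trans (h.trans (hcoe y))
    refine DFinsupp.ext fun e => Subtype.ext ?_
    rw [hB, hB]
    refine (Submodule.Quotient.eq N).2 ?_
    have := hN _ ((Submodule.Quotient.eq N).1 h') e
    simpa [decompose_sub] using this
  · obtain ⟨x, rfl⟩ := Submodule.Quotient.mk_surjective _ z
    exact ⟨B x, hcoe x⟩

end Quot

section Free

/-- `A(-c)` in degree `n`. -/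
def shPiece (c n : ℕ) : Submodule R A := if c ≤ n then 𝒜 (n - c) else ⊥

omit [GradedAlgebra 𝒜] in
lemma shPiece_of_le {c n : ℕ} (h : c ≤ n) : shPiece 𝒜 c n = 𝒜 (n - c) := if_pos h

omit [GradedAlgebra 𝒜] in
lemma eq_zero_or_mem_shPiece {c n : ℕ} {a : A} (ha : a ∈ shPiece 𝒜 c n) :
    a = 0 ∨ (c ≤ n ∧ a ∈ 𝒜 (n - c)) := by
  unfold shPiece at ha
  split_ifs at ha with h
  · exact Or.inr ⟨h, ha⟩
  · exact Or.inl ha

omit [GradedAlgebra 𝒜] in
lemma mem_shPiece {c n j : ℕ} {a : A} (ha : a ∈ 𝒜 j) (h : j + c = n) : a ∈ shPiece 𝒜 c n := by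
  rw [shPiece_of_le 𝒜 (by omega : c ≤ n), show n - c = j by omega]; exact ha

lemma mul_mem_shPiece {c n d : ℕ} {a b : A} (ha : a ∈ 𝒜 d) (hb : b ∈ shPiece 𝒜 c n) :
    a * b ∈ shPiece 𝒜 c (d + n) := by
  rcases eq_zero_or_mem_shPiece 𝒜 hb with rfl | ⟨h, hb⟩
  · rw [mul_zero]; exact zero_mem _
  · exact mem_shPiece 𝒜 (SetLike.mul_mem_graded ha hb) (by omega)

/-- The grading of `A(-c)^k`. -/
def freePiece (k c n : ℕ) : Submodule R (Fin k → A) :=
  ⨅ i, (shPiece 𝒜 c n).comap (LinearMap.proj i)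

omit [GradedAlgebra 𝒜] in
lemma mem_freePiece {k c n : ℕ} {x : Fin k → A} : x ∈ freePiece 𝒜 k c n ↔ ∀ i, x i ∈ shPiece 𝒜 c n := by
  simp [freePiece, Submodule.mem_iInf]

omit [GradedAlgebra 𝒜] in
lemma single_mem_freePiece {k c n : ℕ} (i : Fin k) {a : A} (ha : a ∈ shPiece 𝒜 c n) :
    Pi.single i a ∈ freePiece 𝒜 k c n := (mem_freePiece 𝒜).mpr fun j => by
  by_cases h : j = i
  · subst h; rwa [Pi.single_eq_same]
  · rw [Pi.single_eq_of_ne h]; exact zero_mem _

instance (k c : ℕ) : SetLike.GradedSMul 𝒜 (freePiece 𝒜 k c) :=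
  ⟨fun {d n a x} ha hx => (mem_freePiece 𝒜).mpr fun i => by
    simpa [vadd_eq_add, smul_eq_mul] using mul_mem_shPiece 𝒜 ha ((mem_freePiece 𝒜).mp hx i)⟩

/-- The homogeneous decomposition of one coordinate. -/
def coordDec (k c : ℕ) (i : Fin k) : A →ₗ[R] ⨁ n, freePiece 𝒜 k c n :=
  (DirectSum.toModule R ℕ _ fun j =>
    (DirectSum.lof R ℕ (fun n => freePiece 𝒜 k c n) (j + c)).comp
      (((LinearMap.single R (fun _ : Fin k => A) i).comp (𝒜 j).subtype).codRestrict _ fun a =>
        single_mem_freePiece 𝒜 i (mem_shPiece 𝒜 a.2 rfl))).comp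
    (DirectSum.decomposeLinearEquiv 𝒜).toLinearMap

lemma coordDec_of_mem {k c : ℕ} (i : Fin k) {j n : ℕ} {a : A} (ha : a ∈ 𝒜 j) (h : j + c = n) :
    coordDec 𝒜 k c i a =
      DirectSum.of (fun n => freePiece 𝒜 k c n) n
        ⟨Pi.single i a, single_mem_freePiece 𝒜 i (mem_shPiece 𝒜 ha h)⟩ := by
  subst h
  simp only [coordDec, LinearMap.comp_apply, LinearEquiv.coe_coe, DirectSum.decomposeLinearEquiv_apply,
    DirectSum.decompose_of_mem 𝒜 ha, ← DirectSum.lof_eq_of R, DirectSum.toModule_lof]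
  rfl

instance freeDecomposition (k c : ℕ) : DirectSum.Decomposition (freePiece 𝒜 k c) :=
  DirectSum.Decomposition.ofLinearMap _
    (∑ i : Fin k, (coordDec 𝒜 k c i).comp (LinearMap.proj i))
    (LinearMap.ext fun x => by
      have key : ∀ (i : Fin k) (a : A),
          DirectSum.coeLinearMap (freePiece 𝒜 k c) (coordDec 𝒜 k c i a) = Pi.single i a := fun i a => by
        induction a using DirectSum.Decomposition.inductionOn 𝒜 with
        | zero => simp
        | homogeneous a => rw [coordDec_of_mem 𝒜 i a.2 rfl, DirectSum.coeLinearMap_of]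
        | add a b ha hb => rw [map_add, map_add, ha, hb, Pi.single_add]
      simp only [LinearMap.comp_apply, LinearMap.sum_apply, map_sum, LinearMap.proj_apply, key,
        LinearMap.id_apply]
      exact Finset.univ_sum_single x)
    (DirectSum.linearMap_ext R fun n => LinearMap.ext fun x => by
      have key : ∀ i : Fin k, coordDec 𝒜 k c i (x.1 i) =
          DirectSum.of (fun n => freePiece 𝒜 k c n) n
            ⟨Pi.single i (x.1 i), single_mem_freePiece 𝒜 i ((mem_freePiece 𝒜).mp x.2 i)⟩ := fun i => by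
        rcases eq_zero_or_mem_shPiece 𝒜 ((mem_freePiece 𝒜).mp x.2 i) with h | ⟨h, hm⟩
        · refine (congrArg (coordDec 𝒜 k c i) h).trans ((map_zero _).trans ?_)
          symm
          refine Eq.trans (congrArg _ (?_ : _ = (0 : freePiece 𝒜 k c n))) (map_zero _)
          exact Subtype.ext ((congrArg (Pi.single (M := fun _ : Fin k => A) i) h).trans (Pi.single_zero i))
        · exact coordDec_of_mem 𝒜 i hm (by omega)
      simp only [LinearMap.comp_apply, LinearMap.sum_apply, LinearMap.proj_apply, DirectSum.lof_eq_of,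
        DirectSum.coeLinearMap_of, LinearMap.id_apply, key, ← map_sum]
      exact congrArg _ (Subtype.ext ((AddSubmonoidClass.coe_finsetSum _ _).trans (Finset.univ_sum_single _))))

end Free

end GrT
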