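import Groth.Agent.GrT.Twist

/-!
`O(d)` on projective space as the sheaf of the graded ring. Rewriting with this is much cheaper for the kernel
than identifying the two constructions by unfolding.
-/

set_option autoImplicit false

universe u

open CategoryTheory AlgebraicGeometry

noncomputable section

namespace GrT

theorem twistPS_eq (n : ℕ) (R : Type u) [CommRing R] (d : ℤ) :
    Twist.twistProjSpace n R d = GrTilde.tilde (CohB1.polyGrading n R) (CohB1.polyGrading n R) d :=
  twist_eq (CohB1.polyGrading n R) d

end GrT
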